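import Mathlib

/-!
Sections of finite groups, and the lifting of `p`-subgroups together with their automizers.
-/

set_option autoImplicit false

namespace CfsgLib.AltSec

open Subgroup

/-- `Y` is a section of `G` -/
def Sec (Y G : Type*) [Group Y] [Group G] : Prop :=
  ∃ (X : Subgroup G) (π : X →* Y), Function.Surjective π

variable {Y Y' G G' : Type*} [Group Y] [Group Y'] [Group G] [Group G']

theorem Sec.of_hom {X : Type*} [Group X] (ι : X →* G) (hι : Function.Injective ι) (π : X →* Y)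
    (hπ : Function.Surjective π) : Sec Y G :=
  ⟨ι.range, π.comp (MonoidHom.ofInjective hι).symm.toMonoidHom,
    hπ.comp (MonoidHom.ofInjective hι).symm.surjective⟩

theorem Sec.of_quot (H : Subgroup G) (K : Subgroup H) [K.Normal] (h : Nonempty (H ⧸ K ≃* Y)) : Sec Y G :=
  h.elim fun e => ⟨H, e.toMonoidHom.comp (QuotientGroup.mk' K), e.surjective.comp (QuotientGroup.mk'_surjective K)⟩

theorem Sec.mono_right (h : Sec Y G) (f : G →* G') (hf : Function.Injective f) : Sec Y G' := by
  obtain ⟨X, π, hπ⟩ := h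
  exact Sec.of_hom (f.comp X.subtype) (hf.comp X.subtype_injective) π hπ

theorem Sec.mono_left (h : Sec Y G) (f : Y' →* Y) (hf : Function.Injective f) : Sec Y' G := by
  obtain ⟨X, π, hπ⟩ := h
  let Z : Subgroup X := f.range.comap π
  let ρ : Z →* f.range := (π.comp Z.subtype).codRestrict _ fun z => z.2
  refine Sec.of_hom (X.subtype.comp Z.subtype) (X.subtype_injective.comp Z.subtype_injective)
    ((MonoidHom.ofInjective hf).symm.toMonoidHom.comp ρ)
    ((MonoidHom.ofInjective hf).symm.surjective.comp ?_)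
  rintro ⟨y, hy⟩
  obtain ⟨x, rfl⟩ := hπ y
  exact ⟨⟨x, hy⟩, rfl⟩

theorem Sec.quot_left (h : Sec Y G) (f : Y →* Y') (hf : Function.Surjective f) : Sec Y' G := by
  obtain ⟨X, π, hπ⟩ := h
  exact ⟨X, f.comp π, hf.comp hπ⟩

theorem Sec.trans (h : Sec Y G) (h' : Sec Y' Y) : Sec Y' G := by
  obtain ⟨Z, ρ, hρ⟩ := h'
  exact (h.mono_left Z.subtype Z.subtype_injective).quot_left ρ hρ

theorem Sec.card_dvd (h : Sec Y G) : Nat.card Y ∣ Nat.card G := by
  obtain ⟨X, π, hπ⟩ := h
  exact (card_dvd_of_surjective π hπ).trans (card_subgroup_dvd_card X)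

theorem exists_alt_hom {α β : Type*} [Fintype α] [DecidableEq α] [Fintype β] [DecidableEq β] (e : α ↪ β) :
    ∃ f : alternatingGroup α →* alternatingGroup β, Function.Injective f ∧
      (∀ g a, (f g : Equiv.Perm β) (e a) = e ((g : Equiv.Perm α) a)) ∧
      ∀ g b, b ∉ Set.range e → (f g : Equiv.Perm β) b = b := by
  refine ⟨((Equiv.Perm.viaEmbeddingHom e).comp (alternatingGroup α).subtype).codRestrict _ fun g => ?_,
    fun a b h => Subtype.ext (Equiv.Perm.viaEmbeddingHom_injective e (congrArg Subtype.val h)),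
    fun g a => Equiv.Perm.viaEmbedding_apply _ _ _, fun g b hb => Equiv.Perm.viaEmbedding_apply_of_notMem _ _ _ hb⟩
  classical
  rw [Equiv.Perm.mem_alternatingGroup]
  exact (@Equiv.Perm.sign_extendDomain _ _ _ _ _ _ _ _ (Classical.decPred _) _).trans g.2

theorem Sec.alt_le {r s : ℕ} (hrs : r ≤ s) (h : Sec (alternatingGroup (Fin s)) G) :
    Sec (alternatingGroup (Fin r)) G := by
  obtain ⟨f, hf, -⟩ := exists_alt_hom (Fin.castLEEmb hrs)
  exact h.mono_left f hf

/-- a `p`-subgroup of a quotient lifts to a `p`-subgroup -/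
theorem map_sylow_comap {X : Type*} [Group X] [Finite X] {p : ℕ} [Fact p.Prime] (π : X →* Y)
    (hπ : Function.Surjective π) {E : Subgroup Y} (hE : IsPGroup p E) (Q : Sylow p (E.comap π)) :
    ((Q : Subgroup (E.comap π)).map (E.comap π).subtype).map π = E := by
  let ρ : E.comap π →* E := (π.comp (E.comap π).subtype).codRestrict _ fun z => z.2
  have hρ : Function.Surjective ρ := by
    rintro ⟨y, hy⟩
    obtain ⟨x, rfl⟩ := hπ y
    exact ⟨⟨x, hy⟩, rfl⟩
  have h1 : (Q.mapSurjective hρ : Subgroup E) = ⊤ :=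
    ((Q.mapSurjective hρ).3 (hE.to_subgroup ⊤) le_top).symm
  refine le_antisymm ?_ fun e he => ?_
  · rintro _ ⟨_, ⟨x, -, rfl⟩, rfl⟩
    exact x.2
  · have : (⟨e, he⟩ : E) ∈ (Q.mapSurjective hρ : Subgroup E) := h1 ▸ mem_top _
    obtain ⟨x, hx, e1⟩ := this
    exact ⟨x, ⟨x, hx, rfl⟩, congrArg Subtype.val e1⟩

/-- a `p`-subgroup of a quotient lifts to a `p`-subgroup, together with its normalizer -/
theorem exists_lift {X : Type*} [Group X] [Finite X] {p : ℕ} [Fact p.Prime] (π : X →* Y)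
    (hπ : Function.Surjective π) {E : Subgroup Y} (hE : IsPGroup p E) :
    ∃ Q : Subgroup X, IsPGroup p Q ∧ Q.map π = E ∧
      ∀ b ∈ normalizer (E : Set Y), ∃ g ∈ normalizer (Q : Set X), π g = b := by
  let L := E.comap π
  obtain ⟨Q⟩ : Nonempty (Sylow p L) := inferInstance
  have hQ := map_sylow_comap π hπ hE Q
  refine ⟨(Q : Subgroup L).map L.subtype, Q.2.map _, hQ, fun b hb => ?_⟩
  obtain ⟨x, rfl⟩ := hπ b
  have hx : ∀ y, y ∈ L ↔ x * y * x⁻¹ ∈ L := fun y => by
    simp only [L, mem_comap, map_mul, map_inv]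
    exact mem_normalizer_iff.1 hb _
  let c : MulAut L := L.normalizerMonoidHom ⟨x, mem_normalizer_iff.2 hx⟩
  obtain ⟨l, hl⟩ := MulAction.exists_smul_eq L (c • Q) Q
  have h1 : (l : X) * x ∈ normalizer (((Q : Subgroup L).map L.subtype : Subgroup X) : Set X) := by
    refine mem_normalizer_fintype ?_
    rintro _ ⟨y, hy, rfl⟩
    have h2 : c y ∈ (c • Q : Sylow p L) := Subgroup.smul_mem_pointwise_smul _ _ _ hy
    have h3 : l * c y * l⁻¹ ∈ (l • c • Q : Sylow p L) := Subgroup.smul_mem_pointwise_smul _ (MulAut.conj l) _ h2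
    rw [hl] at h3
    refine ⟨_, h3, ?_⟩
    simp [c, mul_assoc]
  have h4 : π l ∈ ((Q : Subgroup L).map L.subtype).map π := hQ.symm ▸ l.2
  obtain ⟨q, hq, e⟩ := h4
  refine ⟨q⁻¹ * (l * x), mul_mem (inv_mem (le_normalizer hq)) h1, ?_⟩
  rw [map_mul, map_mul, map_inv, e, inv_mul_cancel_left]

theorem card_ker_pow (C : Type*) [CommGroup C] [Finite C] (n : ℕ) :
    Nat.card (powMonoidHom n : C →* C).ker = (powMonoidHom n : C →* C).range.index := by
  have h1 := card_mul_index (powMonoidHom n : C →* C).ker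
  have h2 := card_mul_index (powMonoidHom n : C →* C).range
  rw [index_ker] at h1
  exact Nat.eq_of_mul_eq_mul_right Nat.card_pos (h1.trans (h2.symm.trans (mul_comm _ _)))

/-- elements of order dividing `n` in quotients of abelian groups -/
theorem card_ker_pow_dvd {A B : Type*} [CommGroup A] [CommGroup B] [Finite A] (n : ℕ) (f : A →* B)
    (hf : Function.Surjective f) :
    Nat.card (powMonoidHom n : B →* B).ker ∣ Nat.card (powMonoidHom n : A →* A).ker := by
  have : Finite B := Finite.of_surjective f hf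
  rw [card_ker_pow, card_ker_pow]
  refine (index_dvd_of_le ?_).trans (index_map_dvd _ hf)
  rintro _ ⟨_, ⟨a, rfl⟩, rfl⟩
  exact ⟨f a, by simp⟩

end CfsgLib.AltSec
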