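import Mathlib
import Cfsg.Agent.Lib.AltSec.Sec
import Cfsg.Agent.Lib.Twist.Torus2
import Cfsg.Agent.Lib.Twist.Orbits
import Cfsg.Agent.Lib.Twist.Group

/-!
Sections of (twisted) Chevalley groups: subgroups of the torus and their automizers.
-/

set_option autoImplicit false

namespace CfsgLib.AltSec

open Subgroup CfsgLib.RGD CfsgLib.Twist

section General

variable {G : Type*} [Group G]

theorem exists_conj_le {K M Q : Subgroup G} [Finite M] {l : ℕ} [Fact l.Prime]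
    (hi : ¬ l ∣ K.relIndex M) (hQ : IsPGroup l Q) (hQM : Q ≤ M) : ∃ g ∈ M, ∀ x ∈ Q, g * x * g⁻¹ ∈ K := by
  obtain ⟨P⟩ : Nonempty (Sylow l (K.subgroupOf M)) := inferInstance
  have h1 : ¬ l ∣ ((P : Subgroup (K.subgroupOf M)).map (K.subgroupOf M).subtype).index := by
    rw [index_map_subtype, (Fact.out : l.Prime).dvd_mul]
    exact fun h => h.elim P.not_dvd_index hi
  let P' : Sylow l M := (P.2.map _).toSylow h1
  obtain ⟨R, hR⟩ := (hQ.of_equiv (subgroupOfEquivOfLe hQM).symm).exists_le_sylow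
  obtain ⟨g, hg⟩ := MulAction.exists_smul_eq M R P'
  refine ⟨g, g.2, fun x hx => ?_⟩
  have h2 : g * ⟨x, hQM hx⟩ * g⁻¹ ∈ (g • R : Sylow l M) :=
    Subgroup.smul_mem_pointwise_smul _ (MulAut.conj g) _ (hR (show _ ∈ Q.subgroupOf M from hx))
  rw [hg] at h2
  exact map_subtype_le (H := K.subgroupOf M) _ h2

theorem dihedral_cases {x y w : G} (hx : x * x = 1) (hy : y * y = 1) (hw : w ∈ closure ({x, y} : Set G)) :
    w ^ 2 = 1 ∨ w ∈ zpowers (x * y) := by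
  have hx' : x⁻¹ = x := inv_eq_of_mul_eq_one_right hx
  have hy' : y⁻¹ = y := inv_eq_of_mul_eq_one_right hy
  have h1 : ∀ k : ℤ, x * (x * y) ^ k = (x * y) ^ (-k) * x := fun k => by
    have : x * (x * y) * x⁻¹ = (x * y)⁻¹ := by rw [mul_inv_rev, hx', hy', ← mul_assoc, hx, one_mul]
    rw [zpow_neg, ← inv_zpow, ← this, conj_zpow]; group
  have h2 : y = x * (x * y) := by rw [← mul_assoc, hx, one_mul]
  have key : ∃ k : ℤ, w = (x * y) ^ k ∨ w = x * (x * y) ^ k := by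
    refine closure_induction_left (p := fun w _ => ∃ k : ℤ, w = (x * y) ^ k ∨ w = x * (x * y) ^ k)
      ⟨0, by simp⟩ ?_ ?_ hw
    all_goals
      rintro a (rfl | rfl) b - ⟨k, rfl | rfl⟩
      all_goals try simp only [hx', hy']
      · exact ⟨k, Or.inr rfl⟩
      · exact ⟨k, Or.inl (by rw [← mul_assoc, hx, one_mul])⟩
      · exact ⟨1 + k, Or.inr (by rw [zpow_add, zpow_one, ← mul_assoc, ← h2])⟩
      · refine ⟨-1 + k, Or.inl ?_⟩
        rw [zpow_add, zpow_neg_one, mul_inv_rev, hx', hy', mul_assoc]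
  obtain ⟨k, rfl | rfl⟩ := key
  · exact Or.inr ⟨k, rfl⟩
  · left
    rw [sq]
    nth_rewrite 1 [h1 k]
    rw [mul_assoc, ← mul_assoc x, hx, one_mul, ← zpow_add]
    simp

end General

variable {ι κ B : Type} [Fintype κ] [DecidableEq κ] {Φ : RootSys ι κ}
  {F : Type*} [Field F] {G : Type*} [Group G] {S : StSys Φ F G}

variable (S) in
/-- the trivial twist -/
def twId : Tw S κ where
  ρ := 1
  π := 1
  orb := id
  ρ_simple _ := rfl
  ρ_refl _ _ := rfl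
  orb_π _ := rfl
  orb_trans _ _ h := ⟨0, h⟩
  orb_surj := Function.surjective_id
  σ := id
  f _ := RingHom.id F
  σ_mul _ _ _ _ := rfl
  σ_pos _ _ := rfl
  σ_neg _ _ := rfl

theorem isTw_id (hS : Sharp S) : IsTw (twId S) S.grp where
  sharp := hS
  le_fix _ hg := ⟨hg, rfl⟩
  posJ_le _ _ hg := hg.2.1
  exists_neg b := ⟨S.x (Φ.neg (Φ.simple b)) 1, x_mem_grp S _ _, x_mem_UU S
    (by exact ⟨Φ.neg_neg_simple b, Φ.inSub_neg_iff.2 (Φ.inSub_simple_iff.2 rfl)⟩) _,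
    fun h => one_ne_zero (hS.x_eq_zero _ h)⟩

theorem twId_W1 : (twId S).W1 = Φ.W := by
  ext w
  exact ⟨fun h => h.1, fun h => ⟨h, by simp [twId]⟩⟩

theorem twId_card [Finite ι] (hS : Sharp S) (b : κ) :
    Nat.card ↥(S.UU (posJ Φ ((twId S).J b)) ⊓ (twId S).Fix) = Nat.card F := by
  have : (twId S).J b = {b} := rfl
  rw [this, (twId S).card_single hS rfl]
  exact Nat.card_congr (Equiv.subtypeUnivEquiv fun _ => rfl)

theorem exists_chiHom (hS : Sharp S) : ∃ χ : S.H →* (κ → Fˣ), Function.Injective χ ∧ ∀ h : S.H, Chi S (h : G) (χ h) := by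
  choose c hc using fun h : S.H => hS.exists_chi h.2
  refine ⟨MonoidHom.mk' (fun h => alpha Φ F (c h)) fun a b => hS.chi_unique (hc _) ((hc a).mul (hc b)),
    fun a b e => Subtype.ext (hS.eq_of_chi a.2 b.2 (hc a) ?_), hc⟩
  have e' : alpha Φ F (c a) = alpha Φ F (c b) := e
  exact e' ▸ hc b

variable {T : Tw S B} {M : Subgroup G} (hM : IsTw T M) [Finite ι]
include hM

/-- `N` controls fusion in `H` -/
theorem fuse {g : G} (hg : g ∈ M) : ∃ n ∈ S.N ⊓ M, ∀ x ∈ S.H, g * x * g⁻¹ ∈ S.H → g * x * g⁻¹ = n * x * n⁻¹ := by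
  have hS := hM.sharp
  obtain ⟨u, hu, n, hn, w, hw, ha, u', hu', rfl⟩ := hM.bruhat hg
  refine ⟨n, hn, fun x hx hy => ?_⟩
  generalize hy' : u * n * u' * x * (u * n * u')⁻¹ = y at hy
  have e : u * (n * x) * (x⁻¹ * u' * x) = y * u * y⁻¹ * (y * n) * u' := by rw [← hy']; group
  have := (hS.bruhat_unique _ hu.1 _ (mul_mem hn.1 (H_le_N S hx)) w hw.1
    (by simpa using acts_mul' (one_mem _) ha (hS.acts_H x hx)) _ (hS.H_conj_UU' hx hu'.1)
    _ (hS.H_conj_UU hy hu.1) _ (mul_mem (H_le_N S hy) hn.1) w hw.1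
    (by simpa using acts_mul' hw.1 (hS.acts_H y hy) ha) _ hu'.1 e).2.1
  rw [this, mul_inv_cancel_right]

theorem relIndex_H_N : (S.H ⊓ M).relIndex (S.N ⊓ M) = Nat.card T.W1 := by
  rw [relIndex, ← hM.nHom_ker, index_ker, MonoidHom.range_eq_top.2 hM.nHom_surjective, card_top]

variable [Finite G]

theorem relIndex_H_modEq {m : ℕ} (h : ∀ b, Nat.card ↥(S.UU (posJ Φ (T.J b)) ⊓ T.Fix) ≡ 1 [MOD m]) :
    (S.H ⊓ M).relIndex M ≡ Nat.card T.W1 [MOD m] := by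
  have : Fintype T.W1 := Fintype.ofFinite _
  have h1 : ∀ w ∈ T.W1, Nat.card ↥(S.UU (Φ.Inv w) ⊓ T.Fix) ≡ 1 [MOD m] := fun w hw => by
    refine T.W1_induction (p := fun w => Nat.card ↥(S.UU (Φ.Inv w) ⊓ T.Fix) ≡ 1 [MOD m]) ?_ ?_ hw
    · rw [IsTw.card_Inv_one]
    · intro v hv b hb ih
      rw [hM.card_Inv_mul hv hb]
      exact ih.mul (h b)
  have h2 : Nat.card ↥(S.U ⊓ M) ≡ 1 [MOD m] := by
    have := h1 _ T.w0_univ_mem
    rwa [IsTw.Inv_w0_univ, ← StSys.U, ← hM.U_inf] at this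
  have h3 := hM.card_eq
  have h4 : Nat.card ↥(S.H ⊓ M) * (S.H ⊓ M).relIndex M = Nat.card M := by
    rw [relIndex, ← card_mul_index ((S.H ⊓ M).subgroupOf M),
      Nat.card_congr (subgroupOfEquivOfLe inf_le_right).toEquiv]
  rw [← h4, mul_comm (Nat.card ↥(S.U ⊓ M)), mul_assoc] at h3
  rw [Nat.eq_of_mul_eq_mul_left Nat.card_pos h3, ← one_mul (Nat.card T.W1), Nat.card_eq_fintype_card (α := T.W1),
    Fintype.card_eq_sum_ones]
  exact h2.mul (Nat.ModEq.sum fun w _ => h1 w.1 w.2)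

theorem not_dvd_H {l : ℕ} (h : ∀ b, Nat.card ↥(S.UU (posJ Φ (T.J b)) ⊓ T.Fix) ≡ 1 [MOD l])
    (hW : ¬ l ∣ Nat.card T.W1) : ¬ l ∣ (S.H ⊓ M).relIndex M := fun h1 =>
  hW (((relIndex_H_modEq hM h).dvd_iff dvd_rfl).1 h1)

theorem not_dvd_N {l k : ℕ} (h : ∀ b, Nat.card ↥(S.UU (posJ Φ (T.J b)) ⊓ T.Fix) ≡ 1 [MOD k * l])
    (hk : k ∣ Nat.card T.W1) (hW : ¬ k * l ∣ Nat.card T.W1) : ¬ l ∣ (S.N ⊓ M).relIndex M := fun h1 => by
  refine not_dvd_H hM h hW ?_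
  rw [← relIndex_mul_relIndex _ (S.N ⊓ M) M (inf_le_inf_right M (H_le_N S)) inf_le_right, relIndex_H_N hM]
  exact mul_dvd_mul hk h1

omit [Finite G] [Finite ι] in
theorem pow_mem_H {n : G} (hn : n ∈ S.N ⊓ M) {m : ℕ} (h : wOf S n ^ m = 1) : n ^ m ∈ S.H := by
  have : (⟨n, hn⟩ : ↥(S.N ⊓ M)) ^ m ∈ hM.nHom.ker := by
    rw [MonoidHom.mem_ker, map_pow]
    exact Subtype.ext h
  rw [hM.nHom_ker] at this
  exact this.1

variable {Y : Type*} [Group Y]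

omit hM [Finite ι] in
/-- an `l`-subgroup of a section lifts into any subgroup of index prime to `l` -/
theorem exists_lift_le {K : Subgroup G} {l : ℕ} [Fact l.Prime] (hl : ¬ l ∣ K.relIndex M)
    (h : Sec Y M) {E : Subgroup Y} (hE : IsPGroup l E) :
    ∃ (X : Subgroup M) (π : X →* Y) (j : X →* G) (Q : Subgroup X), Function.Injective j ∧ (∀ x, j x ∈ M) ∧
      Function.Surjective π ∧ IsPGroup l Q ∧ Q.map π = E ∧ (∀ x ∈ Q, j x ∈ K) ∧
      ∀ b ∈ normalizer (E : Set Y), ∃ g ∈ normalizer (Q : Set X), π g = b := by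
  obtain ⟨X, π, hπ⟩ := h
  obtain ⟨Q, h1, h2, h3⟩ := exists_lift π hπ hE
  let j : X →* G := M.subtype.comp X.subtype
  obtain ⟨g, hg, h4⟩ := exists_conj_le hl (h1.map j) (by rintro _ ⟨x, -, rfl⟩; exact x.1.2)
  refine ⟨X, π, (MulAut.conj g).toMonoidHom.comp j, Q,
    (MulAut.conj g).injective.comp (M.subtype_injective.comp X.subtype_injective),
    fun x => mul_mem (mul_mem hg x.1.2) (inv_mem hg), hπ, h1, h2, fun x hx => h4 _ ⟨x, hx, rfl⟩, h3⟩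

omit [Finite G] in
/-- an element normalizing a subgroup of the torus acts on it as an element of `N` -/
theorem exists_n {X : Type*} [Group X] {j : X →* G} (hj : ∀ x, j x ∈ M) (g : X) :
    ∃ n ∈ S.N ⊓ M, ∀ Q : Subgroup X, (∀ x ∈ Q, j x ∈ S.H) → g ∈ normalizer (Q : Set X) →
      ∀ (k : ℕ), ∀ x ∈ Q, j (g ^ k * x * (g ^ k)⁻¹) = n ^ k * j x * (n ^ k)⁻¹ := by
  obtain ⟨n, hn, h⟩ := fuse hM (hj g)
  refine ⟨n, hn, fun Q hQ hg k x hx => ?_⟩
  induction k with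
  | zero => simp
  | succ k ih =>
    have h1 : g ^ k * x * (g ^ k)⁻¹ ∈ Q := (mem_normalizer_iff.1 (pow_mem hg k) x).1 hx
    have h2 := h _ (hQ _ h1) (by simpa using hQ _ ((mem_normalizer_iff.1 hg _).1 h1))
    rw [pow_succ', pow_succ', mul_inv_rev, mul_inv_rev,
      show g * g ^ k * x * ((g ^ k)⁻¹ * g⁻¹) = g * (g ^ k * x * (g ^ k)⁻¹) * g⁻¹ by group, map_mul, map_mul, map_inv,
      h2, ih]
    group

/-- automizers of toral subgroups in a section come from the Weyl group -/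
theorem exists_W {l : ℕ} [Fact l.Prime] (hl : ¬ l ∣ (S.H ⊓ M).relIndex M) (h : Sec Y M) {E : Subgroup Y}
    (hE : IsPGroup l E) {b : Y} (hb : b ∈ normalizer (E : Set Y)) :
    ∃ w ∈ T.W1, ∀ m, w ^ m = 1 → ∀ e ∈ E, Commute (b ^ m) e := by
  obtain ⟨X, π, j, Q, h1, h2, -, -, rfl, h3, h4⟩ := exists_lift_le hl h hE
  obtain ⟨g, hg, rfl⟩ := h4 b hb
  obtain ⟨n, hn, h5⟩ := exists_n hM h2 g
  refine ⟨_, (hM.nHom ⟨n, hn⟩).2, fun m hm => ?_⟩
  rintro _ ⟨x, hx, rfl⟩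
  have := h5 Q (fun x hx => (h3 x hx).1) hg m x hx
  rw [hM.sharp.H_comm (pow_mem_H hM hn hm) (h3 x hx).1, mul_inv_cancel_right] at this
  rw [← map_pow]
  exact Commute.map (mul_inv_eq_iff_eq_mul.1 (h1 this)) π

end CfsgLib.AltSec
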