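import Mathlib
import Cfsg.Agent.Lib.AltSec.Toral
import Cfsg.Agent.S4381

/-!
Minimal lifts of an elementary abelian Sylow subgroup of a section.
-/

set_option autoImplicit false

namespace CfsgLib.AltSec

open Subgroup CfsgLib.Coprime CfsgLib.Solv
open scoped commutatorElement

theorem exists_coprime_supplement {X Z : Type*} [Group X] [Finite X] [Group Z] {l : ℕ} [Fact l.Prime] (π : X →* Z)
    (hπ : Function.Surjective π) (hl : ¬ l ∣ Nat.card Z) : ∃ R : Subgroup X, ¬ l ∣ Nat.card R ∧ R.map π = ⊤ := by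
  obtain ⟨R, hR, hmin⟩ := (wellFounded_lt (α := Subgroup X)).has_min {R | R.map π = ⊤}
    ⟨⊤, map_top_of_surjective π hπ⟩
  refine ⟨R, ?_, hR⟩
  let ρ : R →* Z := π.comp R.subtype
  have key : ∀ L : Subgroup R, L ⊔ ρ.ker = ⊤ → L = ⊤ := fun L hL => by
    have h1 : (L.map R.subtype).map π = ⊤ := by
      have := congrArg (map ρ) hL
      rwa [Subgroup.map_sup, (Subgroup.map_eq_bot_iff _).2 le_rfl, sup_bot_eq, ← map_map, ← map_map, ← MonoidHom.range_eq_map,
        range_subtype, hR] at this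
    have h2 := (map_subtype_le L).eq_or_lt.resolve_right (hmin _ h1)
    exact map_injective R.subtype_injective (by rw [h2, ← MonoidHom.range_eq_map, range_subtype])
  obtain ⟨P⟩ : Nonempty (Sylow l R) := inferInstance
  have : Finite Z := Finite.of_surjective π hπ
  have h1 : (P : Subgroup R) ≤ ρ.ker := by
    rw [← Subgroup.map_eq_bot_iff]
    obtain ⟨k, hk⟩ := (P.2.map ρ).exists_card_eq
    rcases k with _ | k
    · exact card_eq_one.1 hk
    · exact absurd (((dvd_pow_self l k.succ_ne_zero).trans hk.symm.dvd).trans (card_subgroup_dvd_card _)) hl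
  have : (P : Subgroup R).Normal := normalizer_eq_top_iff.1 (key _ (P.normalizer_sup_eq_top' h1))
  obtain ⟨L, hL⟩ := exists_right_complement'_of_coprime P.card_coprime_index
  have h2 : L = ⊤ := key L (top_le_iff.1 (hL.symm.sup_eq_top.ge.trans (sup_le_sup_left h1 L)))
  have h3 : (P : Subgroup R) = ⊥ := by simpa [h2] using hL.disjoint
  have := P.not_dvd_index
  rwa [h3, index_bot] at this

theorem exists_min_lift {X Y : Type*} [Group X] [Finite X] [Group Y] {l : ℕ} [hp : Fact l.Prime] (π : X →* Y)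
    (hπ : Function.Surjective π) {E : Subgroup Y} (hE : IsPGroup l E) (hl : ¬ l ∣ E.index) :
    ∃ Q : Subgroup X, IsPGroup l Q ∧ Q.map π = E ∧ (π.comp Q.subtype).ker ≤ frattini Q ∧
      ∀ b ∈ normalizer (E : Set Y), ∃ g ∈ normalizer (Q : Set X), ∃ e ∈ E, π g = b * e := by
  obtain ⟨Q₀, h1, h2, h3⟩ := exists_lift π hπ hE
  let Z := normalizer (Q₀ : Set X)
  let N := normalizer (E : Set Y)
  let ρ : Z →* N := (π.comp Z.subtype).codRestrict _ fun z => by
    simp only [N]; rw [← h2]; exact le_normalizer_map π ⟨z, z.2, rfl⟩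
  have hρ : Function.Surjective ρ := fun b => by
    obtain ⟨g, hg, e⟩ := h3 b b.2
    exact ⟨⟨g, hg⟩, Subtype.ext e⟩
  obtain ⟨R₀, h4, h5⟩ := exists_coprime_supplement (l := l) ((QuotientGroup.mk' (E.subgroupOf N)).comp ρ)
    ((QuotientGroup.mk'_surjective _).comp hρ) fun h => hl (h.trans (relIndex_dvd_index_of_le le_normalizer))
  let R := R₀.map Z.subtype
  obtain ⟨Q, ⟨k1, k2, k3⟩, hmin⟩ := (wellFounded_lt (α := Subgroup X)).has_min
    {Q | IsPGroup l Q ∧ Q.map π = E ∧ R ≤ normalizer (Q : Set X)} ⟨Q₀, h1, h2, map_subtype_le _⟩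
  refine ⟨Q, k1, k2, ?_, fun b hb => ?_⟩
  · let φ : R →* MulAut Q := Q.normalizerMonoidHom.comp (inclusion k3)
    have hΦ : AutInv φ (frattini Q) := autInv_of_characteristic _
    have hK : AutInv φ (π.comp Q.subtype).ker := fun a x hx => by
      have hx' : π x = 1 := hx
      change π (a * x * a⁻¹) = 1
      simp [hx']
    obtain ⟨W, w1, w2, w3⟩ := Cfsg.Agent.S4381.aut_maschke (quotAut φ (frattini Q) hΦ) hp.out
      (Core.isMulCommutative_quotient_frattini k1) (Core.pow_eq_one_quotient_frattini k1)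
      (by rwa [card_subtype]) (autInv_map_quot hΦ hK)
    let Q₁ := W.comap (QuotientGroup.mk' (frattini Q))
    have w4 : (π.comp Q.subtype).ker ⊔ Q₁ = ⊤ := by
      have := congrArg (comap (QuotientGroup.mk' (frattini Q))) w2
      rwa [← map_comap_eq_self_of_surjective (QuotientGroup.mk'_surjective _) W, ← Subgroup.map_sup, comap_map_eq,
        QuotientGroup.ker_mk', comap_top, sup_assoc, sup_eq_left.2 (QuotientGroup.le_comap_mk' _ W)] at this
    have w5 : Q₁.map Q.subtype = Q := (map_subtype_le Q₁).eq_or_lt.resolve_right (hmin _ ⟨(k1.to_subgroup _).map _, by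
      have := congrArg (map (π.comp Q.subtype)) w4
      rwa [Subgroup.map_sup, (Subgroup.map_eq_bot_iff _).2 le_rfl, bot_sup_eq, ← map_map, ← map_map, ← MonoidHom.range_eq_map,
        range_subtype, k2] at this, fun g hg => mem_normalizer_fintype (by
      rintro _ ⟨x, hx, rfl⟩
      exact ⟨_, autInv_comap_quot w1 ⟨g, hg⟩ x hx, rfl⟩)⟩)
    have w6 : W = ⊤ := by
      have : Q₁ = ⊤ := map_injective Q.subtype_injective (by rw [w5, ← MonoidHom.range_eq_map, range_subtype])
      rw [← map_comap_eq_self_of_surjective (QuotientGroup.mk'_surjective _) W]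
      change Q₁.map _ = ⊤
      rw [this]
      exact map_top_of_surjective _ (QuotientGroup.mk'_surjective _)
    rwa [w6, inf_top_eq, Subgroup.map_eq_bot_iff, QuotientGroup.ker_mk'] at w3
  · obtain ⟨g, hg, e⟩ : ((⟨b, hb⟩ : N) : N ⧸ E.subgroupOf N) ∈ R₀.map _ := h5 ▸ mem_top _
    have e' : (⟨b, hb⟩ : N)⁻¹ * ρ g ∈ E.subgroupOf N := QuotientGroup.eq.1 e.symm
    exact ⟨g, k3 ⟨g, hg, rfl⟩, _, e', (mul_inv_cancel_left b _).symm⟩

section Cases

variable {P E R : Type*} [Group P] [Finite P] [CommGroup E] [Nontrivial E] {l : ℕ} [hp : Fact l.Prime]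
  (hP : IsPGroup l P) (ρ : P →* E) (hρ : Function.Surjective ρ) (hk : ρ.ker ≤ frattini P)
  (φ : R → MulAut P) (ψ : R → E → E) (hc : ∀ g x, ρ (φ g x) = ψ g (ρ x))
  (hirr : ∀ B : Subgroup E, (∀ g, ∀ e ∈ B, ψ g e ∈ B) → B = ⊥ ∨ B = ⊤)
include hP hρ hk hc hirr

/-- the abelian case: the quotient is also a subgroup -/
theorem exists_inj_of_comm (h : ∀ x y : P, x * y = y * x) :
    ∃ θ : E →* P, Function.Injective θ ∧ ∀ g e, θ (ψ g e) = φ g (θ e) := by
  classical
  let _ : CommGroup P := { (inferInstance : Group P) with mul_comm := h }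
  obtain ⟨n, hn⟩ := hP.exists_card_eq
  have h0 : ∃ k, ∀ x : P, x ^ l ^ k = 1 := ⟨n, fun x => hn ▸ pow_card_eq_one'⟩
  have h1 := Nat.find_spec h0
  obtain ⟨k, hk'⟩ : ∃ k, Nat.find h0 = k + 1 := Nat.exists_eq_succ_of_ne_zero fun e => by
    obtain ⟨a, ha⟩ := exists_ne (1 : E)
    obtain ⟨x, rfl⟩ := hρ a
    exact ha (by simpa [e] using congrArg ρ (h1 x))
  obtain ⟨x, hx⟩ := not_forall.1 (Nat.find_min h0 (show k < _ by omega))
  have h2 : ρ.ker ≤ (powMonoidHom (l ^ k) : P →* P).ker := by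
    refine hk.trans ((Core.frattini_le_of_commutator_le_of_pow_mem hp.out ?_ fun y => ?_))
    · rw [commutator_eq_bot]; exact bot_le
    · change (y ^ l) ^ l ^ k = 1
      rw [← pow_mul, ← pow_succ', ← hk', h1]
  let θ := ρ.liftOfSurjective hρ ⟨_, h2⟩
  have h3 : ∀ y, θ (ρ y) = y ^ l ^ k := fun y => ρ.liftOfRightInverse_comp_apply ..
  have h4 : ∀ g e, θ (ψ g e) = φ g (θ e) := fun g e => by
    obtain ⟨y, rfl⟩ := hρ e
    rw [← hc, h3, h3, map_pow]
  refine ⟨θ, (MonoidHom.ker_eq_bot_iff θ).1 ((hirr θ.ker fun g e he => ?_).resolve_right fun e => ?_), h4⟩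
  · rw [MonoidHom.mem_ker] at he ⊢
    rw [h4, he, map_one]
  · exact hx ((h3 x).symm.trans (show ρ x ∈ θ.ker from e ▸ mem_top _))

omit [Nontrivial E] hP in
/-- the non-abelian case -/
theorem exists_center_of_not_comm (hE : ∀ e : E, e ^ l = 1) (A : Subgroup P) (hA : ∀ x ∈ A, ∀ y ∈ A, x * y = y * x)
    (hi : A.index ∣ l) (h : ¬ ∀ x y : P, x * y = y * x) :
    Nat.card E ≤ l ^ 2 ∧ ∃ z ∈ A, z ≠ 1 ∧ z ∈ center P ∧ z ^ l = 1 ∧
      ∀ g (c : ℕ), (∀ e, ψ g e = e ^ c) → φ g z = z ^ c ^ 2 := by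
  have : Finite E := Finite.of_surjective ρ hρ
  have hi' : A.index = l := ((Nat.dvd_prime hp.out).1 hi).resolve_left fun e => h fun x y =>
    hA x (index_eq_one.1 e ▸ mem_top x) y (index_eq_one.1 e ▸ mem_top y)
  have hA1 : IsCoatom A := Core.isCoatom_of_index_prime (hi' ▸ hp.out)
  have hkA : ρ.ker ≤ A := hk.trans (frattini_le_coatom hA1)
  have htop : ∀ B : Subgroup P, B.map ρ = ⊤ → B = ⊤ := fun B hB => frattini_nongenerating (top_le_iff.1 (by
    rw [← comap_top ρ, ← hB, comap_map_eq]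
    exact sup_le_sup_left hk B))
  have hZ : center P ≤ ρ.ker := by
    rw [← Subgroup.map_eq_bot_iff]
    refine (hirr _ ?_).resolve_right fun e => h fun x y => mem_center_iff.1 (htop _ e ▸ mem_top y) x
    rintro g _ ⟨x, hx, rfl⟩
    exact ⟨_, characteristic_iff_le_comap.1 inferInstance (φ g) hx, hc g x⟩
  obtain ⟨g, a, ha, hg⟩ : ∃ g, ∃ a ∈ A, φ g a ∉ A := by
    by_contra hh
    push Not at hh
    rcases hirr (A.map ρ) (by
      rintro g _ ⟨x, hx, rfl⟩
      exact ⟨_, hh g x hx, hc g x⟩) with e | e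
    · obtain ⟨x, hx⟩ : ∃ x, x ∉ A := by simpa [eq_top_iff'] using hA1.1
      have h1 : zpowers x = ⊤ := htop _ (by
        have := congrArg (map ρ) (hA1.2 (A ⊔ zpowers x) (left_lt_sup.2 fun h => hx (h (mem_zpowers x))))
        rwa [Subgroup.map_sup, e, bot_sup_eq, map_top_of_surjective _ hρ] at this)
      refine h fun y z => ?_
      obtain ⟨i, rfl⟩ : y ∈ zpowers x := h1 ▸ mem_top _
      obtain ⟨j, rfl⟩ : z ∈ zpowers x := h1 ▸ mem_top _
      exact (Commute.zpow_zpow_self x i j).eq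
    · exact hA1.1 (htop _ e)
  let A' := A.map (φ g).toMonoidHom
  have h1 : A ⊔ A' = ⊤ := hA1.2 _ (left_lt_sup.2 fun h => hg (h ⟨a, ha, rfl⟩))
  have h2 : A ⊓ A' ≤ center P := fun x hx => by
    have : A ⊔ A' ≤ centralizer {x} := sup_le (fun y hy => mem_centralizer_singleton_iff.2 (hA y hy x hx.1)) (by
      rintro _ ⟨y, hy, rfl⟩
      obtain ⟨x', hx', rfl⟩ := hx.2
      exact mem_centralizer_singleton_iff.2 (by rw [← map_mul, ← map_mul, hA y hy x' hx']))
    exact mem_center_iff.2 fun y => mem_centralizer_singleton_iff.1 (this (h1 ▸ mem_top y))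
  have h3 : ρ.ker ≤ center P := (le_inf hkA fun x hx => by
    have : (ρ.ker.map (φ g).toMonoidHom) = ρ.ker := eq_of_le_of_card_ge (by
      rintro _ ⟨y, hy, rfl⟩
      have hy' : ρ y = 1 := hy
      have := hc g 1
      rw [map_one, map_one] at this
      change ρ (φ g y) = 1
      rw [hc, hy', ← this]) (card_map_of_injective (φ g).injective).ge
    exact map_mono hkA (this.ge hx)).trans h2
  refine ⟨?_, ?_⟩
  · rw [← card_top, ← MonoidHom.range_eq_top.2 hρ, ← index_ker, sq]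
    refine (Nat.le_of_dvd (Nat.pos_of_ne_zero index_ne_zero_of_finite) (index_dvd_of_le (h2.trans hZ))).trans
      (index_inf_le.trans ?_)
    rw [show A'.index = A.index from index_map_equiv A (φ g), hi']
  · push Not at h
    obtain ⟨x, y, hxy⟩ := h
    have hm : ∀ x y : P, ⁅x, y⁆ ∈ ρ.ker := fun x y => by
      rw [MonoidHom.mem_ker, map_commutatorElement, commutatorElement_eq_one_iff_mul_comm, mul_comm]
    have hl : ∀ x x' y : P, ⁅x * x', y⁆ = ⁅x, y⁆ * ⁅x', y⁆ := fun x x' y => by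
      rw [mem_center_iff.1 (h3 (hm x' y)) ⁅x, y⁆, show ⁅x * x', y⁆ = x * ⁅x', y⁆ * x⁻¹ * ⁅x, y⁆ by group,
        mem_center_iff.1 (h3 (hm x' y)) x]
      group
    have hl' : ∀ (x y : P) (n : ℕ), ⁅x ^ n, y⁆ = ⁅x, y⁆ ^ n := fun x y n => by
      induction n with
      | zero => simp
      | succ n ih => rw [pow_succ, hl, ih, pow_succ]
    have h0 : ∀ x ∈ ρ.ker, ∀ y : P, ⁅x, y⁆ = 1 := fun x hx y =>
      commutatorElement_eq_one_iff_mul_comm.2 (mem_center_iff.1 (h3 hx) y).symm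
    refine ⟨⁅x, y⁆, hkA (hm x y), fun e => hxy (commutatorElement_eq_one_iff_mul_comm.1 e), h3 (hm x y), ?_,
      fun g c hg => ?_⟩
    · rw [← hl', h0 _ (by rw [MonoidHom.mem_ker, map_pow, hE])]
    · have key : ∀ x y : P, ⁅φ g x, y⁆ = ⁅x, y⁆ ^ c := fun x y => by
        rw [← mul_inv_cancel_left (x ^ c) (φ g x), hl, hl', h0 ((x ^ c)⁻¹ * φ g x) (by
          rw [MonoidHom.mem_ker, map_mul, map_inv, hc, hg, map_pow, inv_mul_cancel]), mul_one]
      rw [map_commutatorElement, key, ← commutatorElement_inv, key, ← inv_pow, commutatorElement_inv, ← pow_mul, sq]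

end Cases

end CfsgLib.AltSec
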