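import Mathlib
import Cfsg.Agent.Lib.AltSec.Toral
import Cfsg.Agent.Lib.RGD.Tor

/-!
Sections of (twisted) Chevalley groups: characters of toral elements, squares in `2`-subgroups of
rank two groups, and two primes at once.
-/

set_option autoImplicit false

namespace CfsgLib.AltSec

open Subgroup CfsgLib.RGD CfsgLib.Twist

variable {ι κ B : Type} [Fintype κ] [DecidableEq κ] {Φ : RootSys ι κ}
  {F : Type*} [Field F] {G : Type*} [Group G] {S : StSys Φ F G}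

/-- `g` acts on the root subgroups by the character with values `y` on the fundamental roots -/
def Chr (S : StSys Φ F G) (g : G) (y : κ → Fˣ) : Prop :=
  ∀ r t, g * S.x r t * g⁻¹ = S.x r (Φ.chr y r * t)

theorem Chr.chi {g : G} {y : κ → Fˣ} (h : Chr S g y) : Chi S g y := fun i t => by rw [h, Φ.chr_simple]

theorem Chr.mul {g g' : G} {y y' : κ → Fˣ} (h : Chr S g y) (h' : Chr S g' y') : Chr S (g * g') (y * y') :=
  fun r t => by
  rw [show g * g' * S.x r t * (g * g')⁻¹ = g * (g' * S.x r t * g'⁻¹) * g⁻¹ by group, h', h, Φ.chr_mul,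
    Units.val_mul, mul_assoc]

theorem chr_inv {M : Type*} [CommGroup M] (y : κ → M) (r : ι) : Φ.chr y⁻¹ r = (Φ.chr y r)⁻¹ := by
  simp [RootSys.chr]

theorem Chr.inv {g : G} {y : κ → Fˣ} (h : Chr S g y) : Chr S g⁻¹ y⁻¹ := fun r t => by
  have := h r (Φ.chr y⁻¹ r * t)
  rw [← mul_assoc, chr_inv, Units.mul_inv, one_mul] at this
  rw [← this, chr_inv]; group

theorem exists_chr (hS : Sharp S) {h : G} (hh : h ∈ S.H) : ∃ y, Chr S h y := by
  rw [hS.H_gen] at hh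
  induction hh using closure_induction with
  | mem x hx =>
    obtain ⟨i, c, hc, rfl⟩ := hx
    refine ⟨fun j => Units.mk0 c hc ^ Φ.A i j, fun r t => ?_⟩
    rw [hS.h_conj i c hc, Φ.chr_zpow, Units.val_zpow_eq_zpow_val, RootSys.wt]
    simp only [mul_comm, Units.val_mk0]
  | one => exact ⟨1, fun r t => by simp [Φ.chr_one]⟩
  | mul a b _ _ ha hb => exact ⟨_, ha.choose_spec.mul hb.choose_spec⟩
  | inv a _ ha => exact ⟨_, ha.choose_spec.inv⟩

theorem Chr.conj {n g : G} {w : Equiv.Perm ι} (hw : w ∈ Φ.W) (ha : S.Acts n w) {y : κ → Fˣ} (h : Chr S g y) :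
    Chr S (n⁻¹ * g * n) fun j => Φ.chr y (w (Φ.simple j)) := fun r t => by
  obtain ⟨l, -, e⟩ := ha
  rw [Φ.chr_apply hw, show n⁻¹ * g * n * S.x r t * (n⁻¹ * g * n)⁻¹ = n⁻¹ * (g * (n * S.x r t * n⁻¹) * g⁻¹) * n by
    group, e, h, mul_left_comm, ← e]
  group

/-- the characters of the elements of the torus -/
theorem exists_chrHom (hS : Sharp S) : ∃ χ : S.H →* (κ → Fˣ), Function.Injective χ ∧ (∀ h : S.H, Chr S (h : G) (χ h)) ∧
    ∀ (n : G) (w : Equiv.Perm ι), w ∈ Φ.W → S.Acts n w → ∀ h h' : S.H, (h' : G) = n⁻¹ * h * n →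
      ∀ r, Φ.chr (χ h') r = Φ.chr (χ h) (w r) := by
  choose c hc using fun h : S.H => exists_chr hS h.2
  refine ⟨MonoidHom.mk' c fun a b => hS.chi_unique (hc _).chi ((hc a).mul (hc b)).chi,
    fun a b e => Subtype.ext (hS.eq_of_chi a.2 b.2 (hc a).chi ?_), hc, fun n w hw ha h h' e r => ?_⟩
  · have e' : c a = c b := e
    exact e' ▸ (hc b).chi
  · have := hS.chi_unique (hc h').chi (e ▸ (hc h).conj hw ha).chi
    change Φ.chr (c h') r = Φ.chr (c h) (w r)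
    rw [this, Φ.chr_apply hw]

theorem acts_pow {n : G} {w : Equiv.Perm ι} (hw : w ∈ Φ.W) (ha : S.Acts n w) (k : ℕ) : S.Acts (n ^ k) (w ^ k) := by
  induction k with
  | zero => simpa using acts_one
  | succ k ih => rw [pow_succ, pow_succ]; exact acts_mul' hw ih ha

/-- an element of the Weyl group with minimal polynomial `x⁴ - x² + 1` -/
theorem phi12 (hS : Sharp S) {n : G} (hn : n ∈ S.N) {w : Equiv.Perm ι} (hw : w ∈ Φ.W) (ha : S.Acts n w)
    (e : ∀ i j, Φ.rt ((w ^ 4) (Φ.simple i)) j + Φ.rt (Φ.simple i) j = Φ.rt ((w ^ 2) (Φ.simple i)) j)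
    {h : G} (hh : h ∈ S.H) : n ^ 4 * h * (n ^ 4)⁻¹ * h = n ^ 2 * h * (n ^ 2)⁻¹ := by
  have h0 : n ^ 4 * h * (n ^ 4)⁻¹ ∈ S.H := hS.conj_mem_H (pow_mem hn 4) hh
  obtain ⟨y, hy⟩ := exists_chr hS h0
  have h4 := hy.conj (pow_mem hw 4) (acts_pow hw ha 4)
  have h2 := hy.conj (pow_mem hw 2) (acts_pow hw ha 2)
  rw [show (n ^ 4)⁻¹ * (n ^ 4 * h * (n ^ 4)⁻¹) * n ^ 4 = h by group] at h4
  rw [show (n ^ 2)⁻¹ * (n ^ 4 * h * (n ^ 4)⁻¹) * n ^ 2 = n ^ 2 * h * (n ^ 2)⁻¹ by group] at h2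
  refine hS.eq_of_chi (mul_mem h0 hh) (hS.conj_mem_H (pow_mem hn 2) hh) (hy.mul h4).chi ?_
  convert h2.chi using 1
  funext i
  rw [Pi.mul_apply, ← Φ.chr_simple y i]
  simp only [RootSys.chr, ← e, zpow_add, Finset.prod_mul_distrib, mul_comm]

variable {T : Tw S B} {M : Subgroup G} (hM : IsTw T M) [Finite ι] [Finite G] {Y : Type*} [Group Y]
include hM

omit [Finite ι] in
/-- squares in a `2`-subgroup of a section of a group of rank two -/
theorem card_sq_le (h2 : ¬ 2 ∣ (S.N ⊓ M).relIndex M) (hW : ∀ w ∈ T.W1, ∀ k, w ^ 2 ^ k = 1 → w ^ 2 = 1)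
    (ψ : ↥(S.H ⊓ M) →* Fˣ × Fˣ) (hψ : Function.Injective ψ) (h : Sec Y M) {E : Subgroup Y}
    (hE : IsPGroup 2 E) (s : Finset Y) (hs : ∀ y ∈ s, y ^ 2 = 1 ∧ y ∈ closure {y | ∃ e ∈ E, y = e ^ 2}) :
    s.card ≤ 4 := by
  obtain ⟨X, π, j, Q, h1, h2, -, h3, rfl, h4, -⟩ := exists_lift_le h2 h hE
  let A : Subgroup X := (S.H ⊓ M).comap j
  let jA : A →* ↥(S.H ⊓ M) := (j.comp A.subtype).codRestrict _ fun a => a.2
  have hj : Function.Injective (ψ.comp jA) := hψ.comp fun a b e => Subtype.ext (h1 (congrArg Subtype.val e))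
  let _ : CommGroup A := { (inferInstance : Group A) with
    mul_comm := fun a b => hj (by rw [map_mul, map_mul, mul_comm]) }
  let f : A →* (π.comp A.subtype).range := (π.comp A.subtype).rangeRestrict
  have hf : Function.Surjective f := MonoidHom.rangeRestrict_surjective _
  let _ : CommGroup (π.comp A.subtype).range := { (inferInstance : Group (π.comp A.subtype).range) with
    mul_comm := fun a b => by
      obtain ⟨a, rfl⟩ := hf a
      obtain ⟨b, rfl⟩ := hf b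
      rw [← map_mul, ← map_mul, mul_comm] }
  have h5 : closure {y | ∃ e ∈ Q.map π, y = e ^ 2} ≤ (π.comp A.subtype).range := by
    rw [closure_le]
    rintro _ ⟨_, ⟨x, hx, rfl⟩, rfl⟩
    obtain ⟨k, hk⟩ := h3 ⟨x, hx⟩
    have hk' : x ^ 2 ^ k = 1 := congrArg Subtype.val hk
    have h6 : wOf S (j x) ^ 2 = 1 := hW _ (hM.nHom ⟨_, h4 x hx⟩).2 k (by
      have : hM.nHom ⟨_, h4 x hx⟩ ^ 2 ^ k = 1 := by
        rw [← map_pow, ← map_one hM.nHom]
        congr 1
        exact Subtype.ext (by simp [← map_pow, hk'])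
      exact congrArg Subtype.val this)
    exact ⟨⟨x ^ 2, by simpa [A] using ⟨pow_mem_H hM (h4 x hx) h6, pow_mem (h2 x) 2⟩⟩, by simp⟩
  have h6 := Nat.le_of_dvd Nat.card_pos (card_ker_pow_dvd 2 f hf)
  have h7 : Nat.card (powMonoidHom 2 : A →* A).ker ≤ 4 := by
    classical
    have : Nat.card (powMonoidHom 2 : A →* A).ker ≤ Nat.card (({1, -1} : Finset Fˣ) ×ˢ ({1, -1} : Finset Fˣ)) := by
      refine Nat.card_le_card_of_injective (fun a => ⟨ψ.comp jA a, ?_⟩) fun a b e =>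
        Subtype.ext (hj (congrArg Subtype.val e))
      have h8 : ψ.comp jA a ^ 2 = 1 := by
        rw [← map_pow, show (a : A) ^ 2 = 1 from a.2, map_one]
      simp only [Finset.mem_product, Finset.mem_insert, Finset.mem_singleton, ← Units.val_inj, Units.val_neg,
        Units.val_one, ← sq_eq_one_iff]
      exact ⟨congrArg (fun z => (z.1 : F)) h8, congrArg (fun z => (z.2 : F)) h8⟩
    rw [Nat.card_eq_finsetCard, Finset.card_product] at this
    exact this.trans (Nat.mul_le_mul Finset.card_le_two Finset.card_le_two)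
  refine le_trans ?_ (h6.trans h7)
  rw [← Nat.card_eq_finsetCard]
  have : Finite (π.comp A.subtype).range := Finite.of_surjective f hf
  refine Nat.card_le_card_of_injective (fun y => ⟨⟨y, h5 (hs y y.2).2⟩, Subtype.ext (hs y y.2).1⟩) fun a b e => ?_
  exact Subtype.ext (congrArg (fun z => z.1.1) e)

/-- two primes at once -/
theorem exists_two {l m : ℕ} [Fact l.Prime] [Fact m.Prime] (hl : ¬ l ∣ (S.H ⊓ M).relIndex M)
    (hm : ¬ m ∣ (S.H ⊓ M).relIndex M) (hW : ¬ l ∣ Nat.card T.W1) (h : Sec Y M) {D E : Subgroup Y}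
    (hD : IsPGroup l D) (hE : IsPGroup m E) (hDE : D ≤ normalizer (E : Set Y)) {b : Y}
    (hb : b ∈ normalizer (D : Set Y)) (hb' : b ∈ normalizer (E : Set Y)) :
    ∃ (X : Subgroup M) (π : X →* Y) (j : X →* G) (P Q : Subgroup X) (g : X), ∃ n ∈ S.N ⊓ M,
      Function.Injective j ∧ P.map π = D ∧ Q.map π = E ∧ π g = b ∧ (∀ x ∈ P, j x ∈ S.H) ∧ (∀ x ∈ Q, j x ∈ S.H) ∧
      (∀ k : ℕ, ∀ x ∈ P, j (g ^ k * x * (g ^ k)⁻¹) = n ^ k * j x * (n ^ k)⁻¹) ∧
      ∀ k : ℕ, ∀ x ∈ Q, j (g ^ k * x * (g ^ k)⁻¹) = n ^ k * j x * (n ^ k)⁻¹ := by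
  obtain ⟨X, π, j, Q, h1, h2, -, h3, h4, h5, h6⟩ := exists_lift_le hm h hE
  let Z := normalizer (Q : Set X)
  let ρ : Z →* normalizer (E : Set Y) := (π.comp Z.subtype).codRestrict _ fun z => by
    rw [← h4]; exact le_normalizer_map π ⟨z, z.2, rfl⟩
  have hρ : Function.Surjective ρ := fun b => by
    obtain ⟨g, hg, e⟩ := h6 b b.2
    exact ⟨⟨g, hg⟩, Subtype.ext e⟩
  obtain ⟨P, k1, k2, k3⟩ := exists_lift ρ hρ (hD.of_equiv (subgroupOfEquivOfLe hDE).symm)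
  obtain ⟨g, hg, e⟩ := k3 ⟨b, hb'⟩ (mem_normalizer_iff.2 fun y => by
    simpa [mem_subgroupOf] using mem_normalizer_iff.1 hb y)
  have hc : ∀ x ∈ P, ∀ y ∈ Q, j x * j y = j y * j x := fun x hx y hy => by
    obtain ⟨n, hn, k4⟩ := exists_n hM h2 (x : X)
    have k5 := k4 Q (fun x hx => (h5 x hx).1) x.2 (Nat.card T.W1) y hy
    rw [hM.sharp.H_comm (pow_mem_H hM hn (congrArg Subtype.val (pow_card_eq_one' (x := hM.nHom ⟨n, hn⟩))))
      (h5 y hy).1, mul_inv_cancel_right] at k5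
    have k6 : Commute ((x : X) ^ Nat.card T.W1) y := mul_inv_eq_iff_eq_mul.1 (h1 k5)
    obtain ⟨k, hk⟩ := k1 ⟨x, hx⟩
    have hk' : (x : X) ^ l ^ k = 1 := congrArg (fun z => z.1.1) hk
    have k7 : (Nat.card T.W1).Coprime (orderOf (x : X)) := Nat.Coprime.coprime_dvd_right
      (orderOf_dvd_of_pow_eq_one hk') (((Fact.out : l.Prime).coprime_iff_not_dvd.2 hW).symm.pow_right k)
    obtain ⟨a, ha⟩ := exists_pow_eq_self_of_coprime k7
    exact ((ha ▸ k6.pow_left a : Commute (x : X) y).map j).eq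
  let C := M ⊓ centralizer (Q.map j : Set G)
  have hC : S.H ⊓ M ≤ C := fun x hx => ⟨hx.2, by
    rintro _ ⟨y, hy, rfl⟩
    exact hM.sharp.H_comm (h5 y hy).1 hx.1⟩
  obtain ⟨c, hc1, hc2⟩ := exists_conj_le (K := S.H ⊓ M) (M := C) (Q := (P.map Z.subtype).map j)
    (fun h => hl (h.trans ⟨_, (relIndex_mul_relIndex _ C M hC inf_le_left).symm⟩)) ((k1.map _).map _) (by
      rintro _ ⟨_, ⟨x, hx, rfl⟩, rfl⟩
      refine ⟨h2 _, ?_⟩
      rintro _ ⟨y, hy, rfl⟩
      exact (hc x hx y hy).symm)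
  let j' := (MulAut.conj c).toMonoidHom.comp j
  have h7 : ∀ x ∈ P.map Z.subtype, j' x ∈ S.H := fun x hx => (hc2 _ ⟨x, hx, rfl⟩).1
  have h8 : ∀ x ∈ Q, j' x ∈ S.H := fun x hx => by
    have : j' x = j x := mul_inv_eq_iff_eq_mul.2 (hc1.2 _ ⟨x, hx, rfl⟩).symm
    exact this ▸ (h5 x hx).1
  obtain ⟨n, hn, h9⟩ := exists_n hM (j := j') (fun x => mul_mem (mul_mem hc1.1 (h2 x)) (inv_mem hc1.1)) (g : X)
  refine ⟨X, π, j', P.map Z.subtype, Q, g, n, hn, (MulAut.conj c).injective.comp h1, ?_, h4, congrArg Subtype.val e,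
    h7, h8, h9 _ h7 (le_normalizer_map _ ⟨g, hg, rfl⟩), h9 _ h8 g.2⟩
  rw [map_map, show π.comp Z.subtype = (normalizer (E : Set Y)).subtype.comp ρ from rfl, ← map_map, k2,
    subgroupOf_map_subtype, inf_eq_left.2 hDE]

end CfsgLib.AltSec
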