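import Mathlib
import Cfsg.Agent.Lib.AltSec.Min
import Cfsg.Agent.Lib.AltSec.Toral2

/-!
An elementary abelian Sylow subgroup of a section of a Chevalley group, for a prime dividing the order of the
Weyl group at most once, is realised in the torus up to index `l`.
-/

set_option autoImplicit false

namespace CfsgLib.AltSec

open Subgroup CfsgLib.RGD CfsgLib.Twist

/-- the map `γ` is induced by conjugation -/
def Real {E Y : Type*} [Group E] [Group Y] (τ : E →* Y) (γ : E → E) : Prop :=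
  ∃ b, ∀ e, b * τ e * b⁻¹ = τ (γ e)

theorem exists_eps (F : Type*) [Field F] [Finite F] {l : ℕ} [hp : Fact l.Prime] (h : Nat.card F ≡ 1 [MOD l]) :
    ∃ ε : Multiplicative (ZMod l) →* Fˣ, Function.Injective ε ∧ ∀ x : Fˣ, x ^ l = 1 → x ∈ ε.range := by
  classical
  obtain ⟨ζ, hζ⟩ := exists_prime_orderOf_dvd_card' (G := Fˣ) l (by
    rw [Nat.card_units]
    exact (Nat.modEq_iff_dvd' Nat.card_pos).1 h.symm)
  have h1 : IsPrimitiveRoot ζ l := hζ ▸ IsPrimitiveRoot.orderOf ζ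
  let e := AddEquiv.toMultiplicativeLeft h1.zmodEquivZPowers
  refine ⟨(zpowers ζ).subtype.comp e.toMonoidHom, (zpowers ζ).subtype_injective.comp e.injective, fun x hx => ?_⟩
  have : x ∈ zpowers ζ := h1.zpowers_eq ▸ (mem_rootsOfUnity _ _).2 hx
  exact ⟨e.symm ⟨x, this⟩, by simp⟩

variable {ι κ B : Type} [Fintype κ] [DecidableEq κ] {Φ : RootSys ι κ}
  {F : Type*} [Field F] {G : Type*} [Group G] {S : StSys Φ F G}
  {T : Tw S B} {M : Subgroup G} (hM : IsTw T M) [Finite ι] [Finite G] {Y : Type*} [Group Y] [Finite Y]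
include hM

theorem exists_real {l : ℕ} [hp : Fact l.Prime] (hN : ¬ l ∣ (S.N ⊓ M).relIndex M) (hW : ¬ l ^ 2 ∣ Nat.card T.W1)
    (ε : Multiplicative (ZMod l) →* Fˣ) (hε : Function.Injective ε) (hε' : ∀ x : Fˣ, x ^ l = 1 → x ∈ ε.range)
    (h : Sec Y M) {E : Type*} [CommGroup E] [Nontrivial E] (τ : E →* Y) (hτ : Function.Injective τ)
    (hE : ∀ e : E, e ^ l = 1) (hi : ¬ l ∣ τ.range.index)
    (hirr : ∀ A : Subgroup E, (∀ γ, Real τ γ → ∀ e ∈ A, γ e ∈ A) → A = ⊥ ∨ A = ⊤) :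
    (∃ (A : Subgroup E) (y : A →* (κ → Multiplicative (ZMod l))), Function.Injective y ∧
      (∀ γ, Real τ γ → ∃ w ∈ Φ.W, ∀ a a' : A, (a' : E) = γ a → ∀ r, Φ.chr (y a) r = Φ.chr (y a') (w r)) ∧
      (A = ⊤ ∨ (A.index = l ∧ ∃ w ∈ Φ.W, orderOf w = l ∧ ∀ a r, Φ.chr (y a) r = Φ.chr (y a) (w r)))) ∨
    (Nat.card E ≤ l ^ 2 ∧ ∃ z : κ → Multiplicative (ZMod l), z ≠ 1 ∧
      (∃ w ∈ Φ.W, orderOf w = l ∧ ∀ r, Φ.chr z r = Φ.chr z (w r)) ∧
      ∀ c : ℕ, Real τ (· ^ c) → ∃ w ∈ Φ.W, ∀ r, Φ.chr z r = Φ.chr (z ^ c ^ 2) (w r)) := by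
  have hS := hM.sharp
  obtain ⟨X, π, hπ⟩ := h
  obtain ⟨Q, h1, h2, h3, h4⟩ := exists_min_lift (l := l) π hπ (E := τ.range) (by
    rintro ⟨_, e, rfl⟩
    exact ⟨1, Subtype.ext (by simp [← map_pow, hE])⟩) hi
  obtain ⟨c, hc, h5⟩ := exists_conj_le hN (h1.map (M.subtype.comp X.subtype)) (by rintro _ ⟨x, -, rfl⟩; exact x.1.2)
  let j : X →* G := (MulAut.conj c).toMonoidHom.comp (M.subtype.comp X.subtype)
  have j1 : Function.Injective j := (MulAut.conj c).injective.comp (M.subtype_injective.comp X.subtype_injective)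
  have j2 : ∀ x, j x ∈ M := fun x => mul_mem (mul_mem hc x.1.2) (inv_mem hc)
  let jN : Q →* ↥(S.N ⊓ M) := (j.comp Q.subtype).codRestrict _ fun x => h5 _ ⟨x, x.2, rfl⟩
  let ρ : Q →* E := (MonoidHom.ofInjective hτ).symm.toMonoidHom.comp
    ((π.comp Q.subtype).codRestrict _ fun x => h2 ▸ mem_map_of_mem π x.2)
  have r1 : ∀ x, τ (ρ x) = π x := fun x => MonoidHom.apply_ofInjective_symm hτ _
  have r2 : Function.Surjective ρ := fun e => by
    obtain ⟨x, hx, e1⟩ : τ e ∈ Q.map π := h2 ▸ ⟨e, rfl⟩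
    exact ⟨⟨x, hx⟩, hτ ((r1 _).trans e1)⟩
  have r3 : ρ.ker ≤ frattini Q := fun x hx => h3 (by
    have : ρ x = 1 := hx
    exact (r1 x).symm.trans (by rw [this, map_one]))
  let φ : normalizer (Q : Set X) → MulAut Q := Q.normalizerMonoidHom
  let ψ : normalizer (Q : Set X) → E → E := fun g e => ρ (φ g (Function.surjInv r2 e))
  have r4 : ∀ g e, τ (ψ g e) = π g * τ e * (π g)⁻¹ := fun g e => by
    rw [r1]
    conv_rhs => rw [← Function.surjInv_eq r2 e, r1, ← map_inv, ← map_mul, ← map_mul]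
    rfl
  have r5 : ∀ g x, ρ (φ g x) = ψ g (ρ x) := fun g x => hτ (by
    rw [r4, r1, r1, ← map_inv, ← map_mul, ← map_mul]; rfl)
  have r6 : ∀ γ, Real τ γ → ∃ g, ∀ e, ψ g e = γ e := by
    rintro γ ⟨b, hb⟩
    obtain ⟨g, hg, _, ⟨e₀, rfl⟩, e⟩ := h4 b (mem_normalizer_fintype (by
      rintro _ ⟨e, rfl⟩
      exact ⟨_, (hb e).symm⟩))
    refine ⟨⟨g, hg⟩, fun a => hτ ?_⟩
    rw [r4, ← hb, e, show τ a = τ e₀ * τ a * (τ e₀)⁻¹ by rw [← map_inv, ← map_mul, ← map_mul, mul_inv_cancel_comm]]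
    conv_lhs => rw [← map_inv τ, ← map_mul τ, ← map_mul τ, mul_inv_cancel_comm]
    group
  have r7 : ∀ A : Subgroup E, (∀ g, ∀ e ∈ A, ψ g e ∈ A) → A = ⊥ ∨ A = ⊤ := fun A hA => hirr A fun γ hγ e he => by
    obtain ⟨g, hg⟩ := r6 γ hγ
    exact hg e ▸ hA g e he
  let A := (hM.nHom.comp jN).ker
  have a1 : ∀ x, x ∈ A ↔ j x ∈ S.H := fun x => by
    change jN x ∈ hM.nHom.ker ↔ _
    rw [hM.nHom_ker]
    exact ⟨fun h => h.1, fun h => ⟨h, j2 x⟩⟩
  have a2 : A.index ∣ l := by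
    obtain ⟨k, hk⟩ := (h1.of_surjective _ (hM.nHom.comp jN).rangeRestrict_surjective).exists_card_eq
    have := card_subgroup_dvd_card (hM.nHom.comp jN).range
    rw [index_ker, hk] at *
    rcases k with _ | _ | k
    exacts [one_dvd _, (pow_one l).dvd, absurd ((pow_dvd_pow l (by omega)).trans this) hW]
  obtain ⟨χ, c1, -, c2⟩ := exists_chrHom hS
  have a3 : ∀ x ∉ A, ∃ w ∈ Φ.W, orderOf w = l ∧ ∀ a : S.H, Commute (j x) a →
      ∀ r, Φ.chr (χ a) r = Φ.chr (χ a) (w r) := fun x hx => by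
    obtain ⟨w1, w2⟩ := hS.wOf_spec (jN x).2.1
    refine ⟨_, w1, orderOf_eq_prime ?_ fun e => hx (Subtype.ext e), fun a ha => c2 _ _ w1 w2 a a ?_⟩
    · obtain ⟨m, hm⟩ := a2
      have : hM.nHom.comp jN (x ^ l) = 1 := hm ▸ pow_mul x _ m ▸ pow_mem (pow_index_mem A x) m
      rw [map_pow] at this
      exact congrArg Subtype.val this
    · exact (by rw [mul_assoc, ← ha.eq, inv_mul_cancel_left] : (a : G) = (j x)⁻¹ * a * j x)
  have a4 : ∀ g : normalizer (Q : Set X), ∃ w ∈ Φ.W, ∀ (x : Q) (hx : j x ∈ S.H) (hx' : j (φ g x) ∈ S.H),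
      ∀ r, Φ.chr (χ ⟨_, hx⟩) r = Φ.chr (χ ⟨_, hx'⟩) (w r) := fun g => by
    obtain ⟨n, hn, e⟩ := fuse hM (j2 g)
    obtain ⟨w1, w2⟩ := hS.wOf_spec hn.1
    refine ⟨_, w1, fun x hx hx' => c2 _ _ w1 w2 _ _ ?_⟩
    have e1 : j (φ g x) = j g * j x * (j g)⁻¹ := by rw [← map_inv, ← map_mul, ← map_mul]; rfl
    change j x = n⁻¹ * j (φ g x) * n
    rw [e1, e _ hx (e1 ▸ hx')]
    group
  have hl : ∀ (y : κ → Multiplicative (ZMod l)) (d : κ → Fˣ), (∀ i, ε (y i) = d i) →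
      ∀ r, ε (Φ.chr y r) = Φ.chr d r := fun y d e r => by rw [Φ.map_chr, funext e]
  by_cases hcomm : ∀ x y : Q, x * y = y * x
  · obtain ⟨θ, t1, t2⟩ := exists_inj_of_comm h1 ρ r2 r3 φ ψ r5 r7 hcomm
    let f : A.comap θ →* S.H := (j.comp (Q.subtype.comp (θ.comp (A.comap θ).subtype))).codRestrict _
      fun a => (a1 _).1 a.2
    have f1 : ∀ a i, χ (f a) i ∈ ε.range := fun a i => hε' _ (by
      rw [← Pi.pow_apply, ← map_pow, ← map_pow, show a ^ l = 1 from Subtype.ext (hE a), map_one, map_one, Pi.one_apply])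
    choose y hy using f1
    refine Or.inl ⟨A.comap θ, MonoidHom.mk' y fun a b => funext fun i => hε (by
      rw [Pi.mul_apply, map_mul, hy, hy, hy, map_mul, map_mul, Pi.mul_apply]), fun a b e => ?_, fun γ hγ => ?_, ?_⟩
    · have : χ (f a) = χ (f b) := funext fun i => by rw [← hy, ← hy]; exact congrArg ε (congrFun e i)
      exact Subtype.ext (t1 (Subtype.ext (j1 (congrArg Subtype.val (c1 this)))))
    · obtain ⟨g, hg⟩ := r6 γ hγ
      obtain ⟨w, hw, e⟩ := a4 g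
      refine ⟨w, hw, fun a a' e1 r => hε ?_⟩
      have e2 : θ a' = φ g (θ a) := by rw [e1, ← hg, t2]
      refine (hl _ _ (hy a) r).trans ((e (θ a) (f a).2 (e2 ▸ (f a').2) r).trans (Eq.symm ((hl _ _ (hy a') _).trans ?_)))
      congr 2
      exact Subtype.ext (congrArg (fun x : Q => j x) e2)
    · by_cases ht : A.comap θ = ⊤
      · exact Or.inl ht
      obtain ⟨e, he⟩ : ∃ e, e ∉ A.comap θ := by simpa [eq_top_iff'] using ht
      obtain ⟨w, hw, w1, w2⟩ := a3 _ he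
      refine Or.inr ⟨((Nat.dvd_prime hp.out).1 ?_).resolve_left fun e => ht (index_eq_one.1 e), w, hw, w1,
        fun a r => hε ((hl _ _ (hy a) r).trans ((w2 _ ?_ r).trans (hl _ _ (hy a) _).symm))⟩
      · rw [index_comap]
        exact (relIndex_dvd_index_of_normal _ _).trans a2
      · exact Commute.map (Commute.map (hcomm _ _) Q.subtype) j
  · obtain ⟨k1, z, z1, z2, z3, z4, z5⟩ := exists_center_of_not_comm ρ r2 r3 φ ψ r5 r7 hE A
      (fun x hx y hy => Subtype.ext (j1 (by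
        simpa using hS.H_comm ((a1 x).1 hx) ((a1 y).1 hy)))) a2 hcomm
    let u : S.H := ⟨j z, (a1 z).1 z1⟩
    have f1 : ∀ i, χ u i ∈ ε.range := fun i => hε' _ (by
      rw [← Pi.pow_apply, ← map_pow, show u ^ l = 1 from Subtype.ext (by
        change j z ^ l = 1
        rw [← map_pow, ← coe_pow, z4, coe_one, map_one]), map_one, Pi.one_apply])
    choose y hy using f1
    obtain ⟨x, hx⟩ : ∃ x, x ∉ A := by
      by_contra hh
      push Not at hh
      exact hcomm fun x y => Subtype.ext (j1 (by simpa using hS.H_comm ((a1 x).1 (hh x)) ((a1 y).1 (hh y))))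
    obtain ⟨w, hw, w1, w2⟩ := a3 x hx
    refine Or.inr ⟨k1, y, fun e => z2 (Subtype.ext (j1 ?_)), ⟨w, hw, w1, fun r => hε ((hl _ _ hy r).trans
      ((w2 u (Commute.map (Commute.map (mem_center_iff.1 z3 x) Q.subtype) j) r).trans (hl _ _ hy _).symm))⟩,
      fun c hc => ?_⟩
    · have : χ u = χ 1 := funext fun i => by rw [← hy, e, map_one χ]; exact map_one ε
      exact (congrArg Subtype.val (c1 this)).trans (map_one j).symm
    · obtain ⟨g, hg⟩ := r6 _ hc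
      obtain ⟨w, hw, e⟩ := a4 g
      have e2 := z5 g c hg
      refine ⟨w, hw, fun r => hε ((hl _ _ hy r).trans ((e z u.2 (e2 ▸ (a1 _).1 (pow_mem z1 _)) r).trans
        (Eq.symm (hl _ _ (fun i => ?_) _))))⟩
      rw [Pi.pow_apply, map_pow, hy, ← Pi.pow_apply, ← map_pow]
      refine congrFun (congrArg χ (Subtype.ext ?_)) i
      change j z ^ c ^ 2 = j (φ g z)
      rw [e2, coe_pow, map_pow]

end CfsgLib.AltSec
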