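import Mathlib
import Cfsg.Agent.Lib.AltSec.Real

/-!
The group `l^k` of translations in the alternating group on `k l` points, and its monomial automorphisms.
-/

set_option autoImplicit false

namespace CfsgLib.AltSec

open Subgroup Equiv Equiv.Perm Multiplicative

variable (k l : ℕ) [hp : Fact l.Prime]

/-- the translations -/
def trP : Multiplicative (Fin k → ZMod l) →* Perm (Fin k × ZMod l) where
  toFun v := prodCongrRight fun i => Equiv.addRight (v.toAdd i)
  map_one' := by ext x <;> simp [prodCongrRight]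
  map_mul' a b := by ext x <;> simp [prodCongrRight, add_assoc, add_comm (toAdd a x.1)]

theorem pow_eq_one_mult (v : Multiplicative (Fin k → ZMod l)) : v ^ l = 1 := by
  ext i
  simp

variable {l}

/-- the translations in the alternating group -/
def trA (h2 : l ≠ 2) : Multiplicative (Fin k → ZMod l) →* alternatingGroup (Fin k × ZMod l) :=
  (trP k l).codRestrict _ fun v => by
    have : sign (trP k l v) ^ l = 1 := by rw [← map_pow, ← map_pow, pow_eq_one_mult, map_one, map_one]
    rwa [Int.units_pow_eq_pow_mod_two, Nat.odd_iff.1 (hp.out.odd_of_ne_two h2), pow_one] at this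

variable (h2 : l ≠ 2)

theorem trA_injective : Function.Injective (trA k h2) := (injective_iff_map_eq_one _).2 fun v h => by
  ext i
  simpa [trA, trP, prodCongrRight] using congrArg (fun g : alternatingGroup (Fin k × ZMod l) => (g.1 (i, 0)).2) h

theorem trA_index [NeZero k] (h : ¬ l ^ (k + 1) ∣ (k * l).factorial) : ¬ l ∣ (trA k h2).range.index := fun h1 => by
  have h3 := card_mul_index (trA k h2).range
  rw [← Nat.card_congr (MonoidHom.ofInjective (trA_injective k h2)).toEquiv, Nat.card_congr Multiplicative.toAdd, Nat.card_fun,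
    Nat.card_zmod, Nat.card_eq_fintype_card, Fintype.card_fin] at h3
  have h4 := card_subgroup_dvd_card (alternatingGroup (Fin k × ZMod l))
  rw [← h3, Nat.card_perm, Nat.card_prod, Nat.card_zmod, Nat.card_eq_fintype_card, Fintype.card_fin] at h4
  exact h ((pow_succ l k ▸ mul_dvd_mul_left _ h1).trans h4)

variable {k}

/-- a monomial map -/
def monoMap (σ : Perm (Fin k)) (c : Fin k → (ZMod l)ˣ) (v : Multiplicative (Fin k → ZMod l)) :
    Multiplicative (Fin k → ZMod l) := ofAdd fun j => c (σ⁻¹ j) * v.toAdd (σ⁻¹ j)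

theorem real_mono (σ : Perm (Fin k)) (c : Fin k → (ZMod l)ˣ) (h : sign σ * ∏ i, sign (c i).mulLeft = 1) :
    Real (trA k h2) (monoMap σ c) := by
  refine ⟨⟨prodCongrLeft (fun _ => σ) * prodCongrRight fun i => (c i).mulLeft, ?_⟩, fun v => ?_⟩
  · rw [mem_alternatingGroup, map_mul, sign_prodCongrLeft, sign_prodCongrRight, Finset.prod_const, Finset.card_univ,
      ZMod.card, Int.units_pow_eq_pow_mod_two, Nat.odd_iff.1 (hp.out.odd_of_ne_two h2), pow_one, h]
  · rw [mul_inv_eq_iff_eq_mul]
    refine Subtype.ext (Equiv.ext fun x => ?_)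
    change (σ x.1, (c x.1 : ZMod l) * (x.2 + v.toAdd x.1)) =
      (σ x.1, (c x.1 : ZMod l) * x.2 + c (σ⁻¹ (σ x.1)) * v.toAdd (σ⁻¹ (σ x.1)))
    simp [mul_add]

theorem irr_mono (u : (ZMod l)ˣ) (hu : u ≠ 1) (hu' : sign u.mulLeft = 1) (t : (ZMod l)ˣ) (ht : sign t.mulLeft = -1)
    (A : Subgroup (Multiplicative (Fin k → ZMod l))) (hA : ∀ γ, Real (trA k h2) γ → ∀ e ∈ A, γ e ∈ A) :
    A = ⊥ ∨ A = ⊤ := by
  refine or_iff_not_imp_left.2 fun h => ?_
  obtain ⟨⟨v, hv⟩, h1⟩ := ne_bot_iff_exists_ne_one.1 h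
  obtain ⟨i, hi⟩ : ∃ i, v.toAdd i ≠ 0 := by
    by_contra hh
    push Not at hh
    exact h1 (Subtype.ext (funext hh))
  have hs : ∀ (j : Fin k) (c : (ZMod l)ˣ), ∏ m, sign (Pi.mulSingle (M := fun _ => (ZMod l)ˣ) j c m).mulLeft =
      sign c.mulLeft := fun j c => by
    rw [Finset.prod_eq_single j (fun m _ hm => by
      rw [Pi.mulSingle_eq_of_ne hm, show (1 : (ZMod l)ˣ).mulLeft = 1 by ext; simp, map_one]) (by simp), Pi.mulSingle_eq_same]
  have hm : ∀ (j : Fin k) (x : ZMod l), x ≠ 0 → ofAdd (Pi.single j x) ∈ A → ∀ y, ofAdd (Pi.single j y) ∈ A :=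
    fun j x hx h y => by
    convert pow_mem h (y / x).val
    rw [← ofAdd_nsmul, ← Pi.single_smul, nsmul_eq_mul, ZMod.natCast_zmod_val, div_mul_cancel₀ _ hx]
  have h3 := hm i ((u - 1) * v.toAdd i) (mul_ne_zero (sub_ne_zero.2 (by simpa using hu)) hi) (by
    convert div_mem (hA _ (real_mono h2 1 (Pi.mulSingle i u) (by rw [hs, hu']; simp)) v hv) hv
    ext j
    rw [monoMap, inv_one]
    by_cases e : j = i
    · subst e; simp [sub_mul]
    · simp [Pi.mulSingle_eq_of_ne e, Pi.single_eq_of_ne e])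
  have h4 : ∀ j y, ofAdd (Pi.single j y) ∈ A := fun j => by
    by_cases e : i = j
    · exact e ▸ h3
    refine hm j t t.ne_zero ?_
    convert hA _ (real_mono h2 (swap i j) (Pi.mulSingle i t) (by rw [hs, ht, sign_swap e]; simp)) _ (h3 1)
    ext m
    by_cases e1 : m = j
    · subst e1; simp [monoMap]
    · have : swap i j m ≠ i := fun h => e1 (by rw [swap_apply_eq_iff, swap_apply_left] at h; exact h)
      simp [monoMap, Pi.single_eq_of_ne e1, Pi.single_eq_of_ne this]
  rw [eq_top_iff]
  intro w _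
  rw [show w = ∏ j, ofAdd (Pi.single j (w.toAdd j)) by rw [← ofAdd_sum, Finset.univ_sum_single]; rfl]
  exact prod_mem fun j _ => h4 j _

theorem Sec.prod {G : Type*} [Group G] (h : Sec (alternatingGroup (Fin (k * l))) G) :
    Sec (alternatingGroup (Fin k × ZMod l)) G := by
  obtain ⟨f, hf, -⟩ := exists_alt_hom (Fintype.equivFinOfCardEq (α := Fin k × ZMod l) (n := k * l) (by
    simp [ZMod.card])).toEmbedding
  exact h.mono_left f hf

end CfsgLib.AltSec
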