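import Mathlib
import Cfsg.Agent.Lib.AltSec.Mono
import Cfsg.Agent.Lib.LS.Weight

/-!
Weights of an elementary abelian group normalised by (enough of) its monomial automorphisms.
-/

set_option autoImplicit false

namespace CfsgLib.AltSec

open CfsgLib.LS Module Finset Multiplicative

section

variable {k V A : Type*} [Field k] [AddCommGroup V] [Module k V] [FiniteDimensional k V]

theorem card_le_finrank_of_wsp {ι : Type*} [Fintype ι] (π : A → End k V) (f : ι → A → k) (hf : Function.Injective f)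
    (U : Submodule k V) (h : ∀ i, ∃ v ≠ 0, v ∈ wsp π (f i) ∧ v ∈ U) : Fintype.card ι ≤ finrank k U := by
  choose v h0 h1 h2 using h
  refine LinearIndependent.fintype_card_le_finrank (b := fun i => (⟨v i, h2 i⟩ : U))
    (LinearIndependent.of_comp U.subtype (Fintype.linearIndependent_iff.2 fun g hg i => ?_))
  exact (smul_eq_zero.1 (wsp_sum_eq_zero π f univ hf.injOn (fun i => g i • v i)
    (fun i _ => Submodule.smul_mem _ _ (h1 i)) hg i (mem_univ _))).resolve_right (h0 i)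

theorem mem_of_wsp [IsAlgClosed k] (π : A → End k V) (hc : ∀ a b, Commute (π a) (π b)) {N : ℕ} (hN : (N : k) ≠ 0)
    (hp : ∀ a, π a ^ N = 1) {B : Type*} (s : B → A) (c : B → k) (W : Submodule k V)
    (hW : ∀ l ∈ wts π 1, (∀ b, l (s b) = c b) → wsp π l ≤ W) {v : V} (hv : ∀ b, π (s b) v = c b • v) : v ∈ W := by
  classical
  obtain ⟨f, h1, rfl⟩ := (Submodule.mem_iSup_iff_exists_finsupp (wsp π) v).1
    ((iSup_wsp_eq_top π hc hN hp).ge trivial)
  refine sum_mem fun l hl => hW l (mem_wts_one.2 ⟨_, Finsupp.mem_support_iff.1 hl, h1 l⟩) (fun b => ?_) (h1 l)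
  refine sub_eq_zero.1 ((smul_eq_zero.1 (wsp_sum_eq_zero π id f.support (Set.injOn_id _)
    (fun l => (l (s b) - c b) • f l) (fun l _ => Submodule.smul_mem _ _ (h1 l)) ?_ l hl)).resolve_right
      (Finsupp.mem_support_iff.1 hl))
  have := hv b
  rw [Finsupp.sum, map_sum, smul_sum, ← sub_eq_zero, ← sum_sub_distrib] at this
  exact (sum_congr rfl fun l _ => by rw [sub_smul, h1 l]).trans this

end

variable {K : Type*} [Field K] [Fintype K] [DecidableEq K] {c : ℕ}

omit [Fintype K] in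
theorem exists_mono (χ χ' : Fin c → K) (h : #{i | χ' i ≠ 0} = #{i | χ i ≠ 0}) :
    ∃ (σ : Equiv.Perm (Fin c)) (u : Fin c → Kˣ), χ' = fun i => u i * χ (σ i) := by
  let e : {i // χ' i ≠ 0} ≃ {i // χ i ≠ 0} := Fintype.equivOfCardEq (by simpa [Fintype.card_subtype] using h)
  refine ⟨e.extendSubtype, fun i => if h : χ' i ≠ 0 then
    Units.mk0 _ (div_ne_zero h (e.extendSubtype_mem i h)) else 1, funext fun i => ?_⟩
  beta_reduce
  split_ifs with h
  · simp [div_mul_cancel₀ _ (e.extendSubtype_mem i h)]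
  · rw [not_not.1 h, not_not.1 (e.extendSubtype_not_mem i h), mul_zero]

theorem card_supp (s : ℕ) : #{χ : Fin c → K | #{i | χ i ≠ 0} = s} = c.choose s * (Fintype.card K - 1) ^ s := by
  rw [card_eq_sum_card_fiberwise (f := fun χ : Fin c → K => ({i | χ i ≠ 0} : Finset _)) (t := powersetCard s univ)
    fun χ h => by simpa using h, sum_congr rfl (g := fun _ => (Fintype.card K - 1) ^ s) fun S hS => ?_]
  · simp
  have hs : #S = s := by simpa using hS
  rw [show ({χ ∈ ({χ : Fin c → K | #{i | χ i ≠ 0} = s} : Finset _) | ({i | χ i ≠ 0} : Finset _) = S} : Finset _) =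
    Fintype.piFinset fun i => if i ∈ S then univ.erase 0 else {0} from Finset.ext fun χ => ?_, Fintype.card_piFinset]
  · simp [apply_ite card, hs]
  simp only [mem_filter, mem_univ, true_and, Fintype.mem_piFinset]
  refine ⟨fun h i => ?_, fun h => ?_⟩
  · rw [← h.2]
    by_cases e : χ i = 0 <;> simp [e]
  · have : ({i | χ i ≠ 0} : Finset _) = S := Finset.ext fun i => by
      have := h i
      by_cases e : i ∈ S <;> simp_all
    exact ⟨this ▸ hs, this⟩

theorem le_choose {c s : ℕ} (h0 : 0 < s) (h : s < c) : c ≤ c.choose s := by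
  induction c generalizing s with
  | zero => omega
  | succ c ih =>
    obtain ⟨s, rfl⟩ := Nat.exists_eq_succ_of_ne_zero h0.ne'
    rw [Nat.choose_succ_succ]
    rcases Nat.eq_zero_or_pos s with rfl | hs
    · simp [add_comm]
    · have := ih hs (by omega)
      have := Nat.choose_pos (show s.succ ≤ c by omega)
      omega

/-- a monomial map -/
def monoK (σ : Equiv.Perm (Fin c)) (u : Fin c → Kˣ) (v : Multiplicative (Fin c → K)) :
    Multiplicative (Fin c → K) := ofAdd fun j => u (σ⁻¹ j) * v.toAdd (σ⁻¹ j)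

theorem trich {k V X : Type*} [Field k] [IsAlgClosed k] [AddCommGroup V] [Module k V] [FiniteDimensional k V] [Group X]
    (ρ : X →* End k V) (τ : Multiplicative (Fin (c + 1) → K) →* X) {l : ℕ} (hl : (l : k) ≠ 0) (hl' : ∀ e, τ e ^ l = 1)
    (h0 : ∃ e, ρ (τ e) ≠ 1) (hT : ∀ (σ : Equiv.Perm (Fin (c + 1))) (u : Fin (c + 1) → Kˣ) (χ : Fin (c + 1) → K),
      ∃ σ' u', Real τ (monoK σ' u') ∧ ∀ i, u' i * χ (σ' i) = u i * χ (σ i)) :
    ∃ ψ : K → k, (∀ s t, ψ (s + t) = ψ s * ψ t) ∧ ψ 0 = 1 ∧ (∃ t, ψ t ≠ 1) ∧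
      ((2 ≤ c ∧ (c + 1) * (Fintype.card K - 1) ^ 2 ≤ finrank k V) ∨ 2 * ((c + 1) * (Fintype.card K - 1)) ≤ finrank k V ∨
      (1 ≤ c ∧ ∀ a ≠ 0, (Fintype.card K - 1) ^ c ≤
        finrank k (wsp (fun t : K => ρ (τ (ofAdd (Pi.single 0 t)))) fun t => ψ (t * a))) ∨
      ∀ a ≠ 0, finrank k (wsp (fun t : K => ρ (τ (ofAdd (Pi.single 0 t)))) fun t => ψ (t * a)) = 1) := by
  let π : Multiplicative (Fin (c + 1) → K) → End k V := fun e => ρ (τ e)
  have hc : ∀ a b, Commute (π a) (π b) := fun a b => ((Commute.all a b).map τ).map ρ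
  have hp : ∀ a, π a ^ l = 1 := fun a => by rw [← map_pow, hl', map_one]
  have h1 : ∀ w ∈ wts π 1, ∃ w' : Multiplicative (Fin (c + 1) → K) →* k, ⇑w' = w := fun w hw => by
    obtain ⟨v, v0, hv⟩ := mem_wts_one.1 hw
    exact ⟨⟨⟨w, weight_one v0 hv (by simp [π])⟩, fun a b => weight_mul v0 hv (by simp [π])⟩, rfl⟩
  have h2 : ∀ (w : Multiplicative (Fin (c + 1) → K) →* k) e, w e = ∏ i, w (ofAdd (Pi.single i (e.toAdd i))) :=
    fun w e => by rw [← map_prod, ← ofAdd_sum, univ_sum_single]; rfl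
  obtain ⟨e₀, h0⟩ := h0
  obtain ⟨w₀, h3, h4⟩ := exists_weight_ne_one π hc hl hp h0
  obtain ⟨w₀, rfl⟩ := h1 _ h3
  obtain ⟨i₀, h5⟩ : ∃ i, w₀ (ofAdd (Pi.single i (e₀.toAdd i))) ≠ 1 := by
    by_contra h
    push Not at h
    exact h4 (by rw [h2]; exact prod_eq_one fun i _ => h i)
  let ψ : K → k := fun t => w₀ (ofAdd (Pi.single i₀ t))
  have p1 : ∀ s t, ψ (s + t) = ψ s * ψ t := fun s t => by simp [ψ, Pi.single_add]
  have p2 : ψ 0 = 1 := by simp [ψ]
  refine ⟨ψ, p1, p2, ⟨_, h5⟩, ?_⟩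
  let wt : (Fin (c + 1) → K) → Multiplicative (Fin (c + 1) → K) → k := fun χ e => ∏ i, ψ (e.toAdd i * χ i)
  have q1 : ∀ χ i t, wt χ (ofAdd (Pi.single i t)) = ψ (t * χ i) := fun χ i t => by
    simp only [wt, toAdd_ofAdd]
    rw [prod_eq_single i (fun j _ hj => by rw [Pi.single_eq_of_ne hj, zero_mul, p2]) (by simp), Pi.single_eq_same]
  have q2 : Function.Injective wt := fun χ χ' h => funext fun i =>
    eq_of_char_mul_eq p1 p2 h5 fun t => by rw [← q1, ← q1, h]
  have q3 : ∀ w ∈ wts π 1, ∃ χ, w = wt χ := fun w hw => by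
    obtain ⟨w, rfl⟩ := h1 _ hw
    choose χ hχ using fun i => exists_char_eq_mul p1 p2 h5 (χ := fun t => w (ofAdd (Pi.single i t)))
      (fun s t => by simp [Pi.single_add]) (by simp)
    exact ⟨χ, funext fun e => (h2 w e).trans (prod_congr rfl fun i _ => hχ i _)⟩
  have q4 : ∀ d χ χ', #{i | χ' i ≠ 0} = #{i | χ i ≠ 0} → wt χ ∈ wts π d → wt χ' ∈ wts π d := fun d χ χ' h hw => by
    obtain ⟨σ, u, rfl⟩ := exists_mono χ χ' h
    obtain ⟨σ', u', ⟨b, hb⟩, e⟩ := hT σ u χ
    convert mem_wts_conj ρ τ hw b _ hb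
    funext v
    simp only [wt, Function.comp, monoK, toAdd_ofAdd, ← e]
    rw [← Equiv.prod_comp σ' fun i => ψ (u' (σ'⁻¹ i) * v.toAdd (σ'⁻¹ i) * χ i)]
    simp [mul_assoc, mul_left_comm]
  have q5 : ∀ i (a : K), a ≠ 0 → #{j | (Pi.single i a : Fin (c + 1) → K) j ≠ 0} = 1 := fun i a ha =>
    card_eq_one.2 ⟨i, Finset.ext fun j => by by_cases e : j = i <;> simp [e, ha]⟩
  have q6 : ∀ χ, wsp π (wt χ) ≤ wsp (fun t : K => ρ (τ (ofAdd (Pi.single 0 t)))) fun t => ψ (t * χ 0) :=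
    fun χ v hv t => (hv _).trans (by rw [q1])
  by_cases h6 : ∃ χ, wt χ ∈ wts π 1 ∧ 2 ≤ #{i | χ i ≠ 0}
  · obtain ⟨χ, h6, h7⟩ := h6
    have h8 : #{i | χ i ≠ 0} ≤ c + 1 := (card_le_univ _).trans (by simp)
    rcases h8.lt_or_eq with h8 | h8
    · refine Or.inl ⟨by omega, ?_⟩
      have := card_mul_le π 1 (fun χ' : {χ' : Fin (c + 1) → K // #{i | χ' i ≠ 0} = #{i | χ i ≠ 0}} => wt χ')
        (q2.comp Subtype.val_injective) fun χ' => q4 1 _ _ χ'.2 h6
      rw [mul_one, Nat.card_eq_fintype_card, Fintype.card_subtype, card_supp] at this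
      refine le_trans (Nat.mul_le_mul (le_choose (by omega) h8) (Nat.pow_le_pow_right ?_ h7)) this
      have := Fintype.one_lt_card (α := K)
      omega
    · refine Or.inr (Or.inr (Or.inl ⟨by omega, fun a ha => ?_⟩))
      let F : (Fin c → Kˣ) → Fin (c + 1) → K := fun u => Fin.cons a fun i => u i
      have hF : ∀ u, #{i | F u i ≠ 0} = #{i | χ i ≠ 0} := fun u => by
        rw [h8, filter_true_of_mem fun i _ => by induction i using Fin.cases <;> simp [F, ha], card_fin]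
      have := card_le_finrank_of_wsp π (fun u => wt (F u))
        (q2.comp fun u u' e => funext fun i => Units.ext (congrFun e i.succ))
        (wsp (fun t : K => ρ (τ (ofAdd (Pi.single 0 t)))) fun t => ψ (t * a)) fun u => by
          obtain ⟨v, v0, hv⟩ := mem_wts_one.1 (q4 1 _ _ (hF u) h6)
          exact ⟨v, v0, hv, q6 _ hv⟩
      simpa [Fintype.card_units] using this
  push Not at h6
  obtain ⟨χ₀, e₀⟩ := q3 _ h3
  have h7 : #{i | χ₀ i ≠ 0} = 1 := by
    have := h6 χ₀ (e₀ ▸ h3)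
    have : 0 < #{i | χ₀ i ≠ 0} := card_pos.2 ⟨i₀, mem_filter.2 ⟨mem_univ _, fun h => h5 (by
      rw [e₀, q1, h, mul_zero, p2])⟩⟩
    omega
  by_cases h8 : ∃ a ≠ 0, wt (Pi.single 0 a) ∈ wts π 2
  · obtain ⟨a, ha, h8⟩ := h8
    have := card_mul_le π 2 (fun x : Fin (c + 1) × Kˣ => wt (Pi.single x.1 x.2)) (q2.comp fun x y e => by
      have := congrFun e x.1
      by_cases h : x.1 = y.1
      · exact Prod.ext h (Units.ext (by simpa [h] using this))
      · simp [Pi.single_eq_of_ne h] at this) fun x => q4 2 _ _ (by rw [q5 _ _ ha, q5 _ _ x.2.ne_zero]) h8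
    exact Or.inr (Or.inl (by simpa [Fintype.card_units, mul_comm] using this))
  refine Or.inr (Or.inr (Or.inr fun a ha => ?_))
  have h9 : ¬ 2 ≤ finrank k (wsp π (wt (Pi.single 0 a))) := fun h => h8 ⟨a, ha, h⟩
  have h10 : 1 ≤ finrank k (wsp π (wt (Pi.single 0 a))) := q4 1 _ _ (by rw [q5 _ _ ha, h7]) (e₀ ▸ h3)
  suffices h : wsp (fun t : K => ρ (τ (ofAdd (Pi.single 0 t)))) (fun t => ψ (t * a)) = wsp π (wt (Pi.single 0 a)) by
    rw [h]; omega
  refine le_antisymm (fun v hv => mem_of_wsp π hc hl hp (fun t : K => ofAdd (Pi.single 0 t)) _ _ (fun w hw e => ?_) hv)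
    (by simpa using q6 (Pi.single 0 a))
  obtain ⟨χ, rfl⟩ := q3 _ hw
  have h11 : χ 0 = a := eq_of_char_mul_eq p1 p2 h5 fun t => by rw [← q1, e]
  refine (congrArg (fun χ => wsp π (wt χ)) (funext fun i => ?_)).le
  by_cases hi : i = 0
  · simp [hi, h11]
  · rw [Pi.single_eq_of_ne hi]
    by_contra h
    have := h6 χ hw
    have := card_le_card (s := {0, i}) (t := {i | χ i ≠ 0}) (by simp [insert_subset_iff, h, h11, ha])
    rw [card_pair (Ne.symm hi)] at this
    omega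

end CfsgLib.AltSec
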