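import Mathlib
import Cfsg.Agent.Lib.Weyl.Main
import Cfsg.Agent.Lib.Weyl.RtTables

/-!
Rational elements of order five and seven in the torus of type `E₇`: tables.
-/

set_option autoImplicit false
set_option synthInstance.maxSize 4096

namespace CfsgLib.AltSec

open CfsgLib.Weyl Cfsg.Lie

/-- a coefficient of a root plus thirty-five -/
def nb7 (r i : ℕ) : ℕ := tRE7 >>> (4 * (8 * r + i)) % 16 + 27

/-- the value of a coweight on a root -/
def val7 (l a b c d e f g r : ℕ) : ℕ :=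
  (nb7 r 0 * a + nb7 r 1 * b + nb7 r 2 * c + nb7 r 3 * d + nb7 r 4 * e + nb7 r 5 * f + nb7 r 6 * g) % l

/-- a finite sum -/
noncomputable def sm (f : ℕ → ℕ) (n : ℕ) : ℕ := Nat.rec 0 (fun r s => s + f r) n

theorem sm_eq (f : ℕ → ℕ) (n : ℕ) : sm f n = ∑ r : Fin n, f r := by
  rw [← Finset.sum_range]
  induction n with
  | zero => rfl
  | succ n ih => rw [Finset.sum_range_succ, ← ih]; rfl

/-- the number of roots with a given value -/
def cnt7 (v : ℕ → ℕ) (c : ℕ) : ℕ := (List.range 126).countP (v · == c)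

/-- the test for order seven -/
noncomputable def tst7 (v : ℕ → ℕ) : Bool :=
  sm (fun r => 256 ^ v r) 126 != sm (fun r => 256 ^ (2 * v r % 7)) 126 ||
    cnt7 v 0 == 126 || (cnt7 v 0 == 30 && cnt7 v 1 == 16) || (cnt7 v 0 == 24 && cnt7 v 1 == 17) ||
    (cnt7 v 0 == 12 && cnt7 v 1 == 19 &&
      [[], [6, 5, 4, 3, 1, 2, 0, 3, 2, 4, 3, 1, 5, 4, 3, 2, 0, 6, 5, 4, 3, 1, 2, 3, 4, 5]].any fun L =>
      allLt 126 fun r => v (applyW tTE7 L r) == val7 7 0 0 0 1 0 1 0 r)

/-- the test for order five -/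
noncomputable def tst5 (v : ℕ → ℕ) : Bool :=
  sm (fun r => 256 ^ v r) 126 != sm (fun r => 256 ^ (2 * v r % 5)) 126 ||
    cnt7 v 0 == 126 || allLt 5 fun t => cnt7 v t == if t = 0 then 26 else 25

theorem chk7 : ∀ d < 2, ∀ c < 3, ∀ e < 3, ∀ a < 4, 4 * d + 3 * c + 3 * e + 2 * a ≤ 7 → ∀ b < 4, ∀ f < 4,
    ∀ g < 8 - (2 * a + 2 * b + 3 * c + 4 * d + 3 * e + 2 * f), tst7 (val7 7 a b c d e f g) := by
  decide +kernel

theorem chk5 : ∀ d < 2, ∀ c < 2, ∀ e < 2, ∀ a < 3, 4 * d + 3 * c + 3 * e + 2 * a ≤ 5 → ∀ b < 3, ∀ f < 3,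
    ∀ g < 6 - (2 * a + 2 * b + 3 * c + 4 * d + 3 * e + 2 * f), tst5 (val7 5 a b c d e f g) := by
  decide +kernel

/-- the values on the roots killed by the standard element -/
def lis0 (a b c e g : ℕ) : List ℕ := [(6 * a + 6 * c) % 7, 6 * a % 7, 6 * b % 7, 6 * c % 7, 6 * e % 7, 6 * g % 7,
  g % 7, e % 7, c % 7, b % 7, a % 7, (a + c) % 7]

theorem fil0 : (List.range 126).filter (val7 7 0 0 0 1 0 1 0 · == 0) = [31, 32, 47, 52, 59, 62, 63, 66, 73, 78, 93, 94] := by
  decide +kernel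

theorem fil1 : (List.range 126).filter (val7 7 0 0 0 1 0 1 0 · == 1) =
    [0, 1, 2, 64, 65, 67, 68, 69, 70, 74, 75, 79, 80, 83, 84, 95, 96, 99, 100] := by
  decide +kernel

/-- the test for a group of order forty-nine -/
def tst49 (a b c e g : ℕ) : Bool := (lis0 a b c e g).count 0 != 6 ||
    (lis0 a b c e g).count 1 != 1 || (lis0 a b c e g).count 2 != 1 || (lis0 a b c e g).count 3 != 1 ||
    allLt 7 fun d => allLt 7 fun f => !allLt 7 fun t =>
      [0, 1, 2, 64, 65, 67, 68, 69, 70, 74, 75, 79, 80, 83, 84, 95, 96, 99, 100].countP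
      (val7 7 a b c d e f g · == t) == if t = 0 then 1 else 3

theorem chk49 : ∀ a < 7, ∀ b < 7, ∀ c < 7, ∀ e < 7, ∀ g < 7, tst49 a b c e g := by
  decide +kernel

theorem map_lis0 (a b c d e f g : ℕ) :
    [31, 32, 47, 52, 59, 62, 63, 66, 73, 78, 93, 94].map (val7 7 a b c d e f g) = lis0 a b c e g := by
  simp only [List.map, val7, nb7, tRE7, lis0, Nat.reduceMul, Nat.reduceAdd, Nat.reduceShiftRight, Nat.reduceMod,
    List.cons.injEq, and_true]
  omega

theorem sum_root : ∀ r < 126, ∃ s < 126, ∃ k < 126, r ≠ s ∧ r ≠ k ∧ s ≠ k ∧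
    ∀ j < 7, coT tRE7 k j = coT tRE7 r j + coT tRE7 s j := fun r hr =>
  ⟨actT 0x10000000000000000000000000000000000000000000000000000000000000000010101010101010101010202020203010101010102020202030303040405060506040506030405060203040506070708090a0708090a0b0c0d0e0f100102030405060708090a0b0c0d0e0f101112131415161718191a1b1c1d1e1f205d 0 r, by revert r; decide +kernel,
    actT 0x5d201f1e1d1c1b1a191817161514131211100f0e0d0c0b0a090807060504030201100f0e0d0c0b0a0908070a09080707060504030206050403060504060506050404030303020202020101010101030202020201010101010101010101000000000000000000000000000000000000000000000000000000000000000001 0 r, by revert r; decide +kernel⟩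

end CfsgLib.AltSec
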