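import Mathlib

/-!
Some elements of small alternating groups.
-/

set_option autoImplicit false

namespace CfsgLib.AltSec

open Subgroup Equiv Equiv.Perm

theorem isPGroup_zpowers {Y : Type*} [Group Y] {a : Y} {l : ℕ} (ha : a ^ l = 1) : IsPGroup l (zpowers a) := by
  rintro ⟨_, k, rfl⟩
  refine ⟨1, Subtype.ext ?_⟩
  change (a ^ k) ^ l ^ 1 = 1
  rw [pow_one, ← zpow_natCast, ← zpow_mul, mul_comm, zpow_mul, zpow_natCast, ha, one_zpow]

theorem mem_normalizer_zpowers {Y : Type*} [Group Y] [Finite Y] {a b : Y} {k : ℕ} (h : b * a * b⁻¹ = a ^ k) :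
    b ∈ normalizer (zpowers a : Set Y) := by
  refine mem_normalizer_fintype ?_
  rintro _ ⟨m, rfl⟩
  rw [← conj_zpow, h]
  exact zpow_mem (pow_mem (mem_zpowers a) k) m

theorem conj_pow_pow {Y : Type*} [Group Y] {a b : Y} {k : ℕ} (h : b * a * b⁻¹ = a ^ k) (m : ℕ) :
    b ^ m * a * (b ^ m)⁻¹ = a ^ k ^ m := by
  induction m with
  | zero => simp
  | succ m ih =>
    rw [pow_succ' b, mul_inv_rev, show b * b ^ m * a * ((b ^ m)⁻¹ * b⁻¹) = b * (b ^ m * a * (b ^ m)⁻¹) * b⁻¹ by group,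
      ih, ← conj_pow, h, ← pow_mul, pow_succ']

theorem modEq_of_commute {Y : Type*} [Group Y] {a b : Y} {k l m : ℕ} (ha : orderOf a = l) (h : b * a * b⁻¹ = a ^ k)
    (hc : Commute (b ^ m) a) : k ^ m ≡ 1 [MOD l] := by
  rw [← ha, ← pow_eq_pow_iff_modEq, ← conj_pow_pow h, hc.eq, mul_inv_cancel_right, pow_one]

/-- a product of an even number of transpositions -/
def ev {n : ℕ} (L : List (Fin n × Fin n)) (h : (∀ p ∈ L, p.1 ≠ p.2) ∧ L.length % 2 = 0) : alternatingGroup (Fin n) :=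
  ⟨(L.map fun p => swap p.1 p.2).prod, (prod_list_swap_mem_alternatingGroup_iff_even_length (by
    simp only [List.mem_map]
    rintro _ ⟨p, hp, rfl⟩
    exact ⟨_, _, h.1 p hp, rfl⟩)).2 (by rw [List.length_map]; exact Nat.even_iff.2 h.2)⟩

theorem alt7_five : ∃ a b : alternatingGroup (Fin 7), orderOf a = 5 ∧ b * a * b⁻¹ = a ^ 2 :=
  have : Fact (Nat.Prime 5) := ⟨by norm_num⟩
  ⟨(ev [(0, 4), (0, 3), (0, 2), (0, 1)] (by decide +kernel)), (ev [(1, 3), (1, 4), (1, 2), (5, 6)] (by decide +kernel)),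
    orderOf_eq_prime (by decide +kernel) (by decide +kernel), by decide +kernel⟩

theorem alt7_seven : ∃ a b : alternatingGroup (Fin 7), orderOf a = 7 ∧ b * a * b⁻¹ = a ^ 2 :=
  have : Fact (Nat.Prime 7) := ⟨by norm_num⟩
  ⟨(ev [(0, 6), (0, 5), (0, 4), (0, 3), (0, 2), (0, 1)] (by decide +kernel)), (ev [(1, 4), (1, 2), (3, 5), (3, 6)] (by decide +kernel)),
    orderOf_eq_prime (by decide +kernel) (by decide +kernel), by decide +kernel⟩

theorem alt11_eleven : ∃ a b : alternatingGroup (Fin 11), orderOf a = 11 ∧ b * a * b⁻¹ = a ^ 3 :=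
  have : Fact (Nat.Prime 11) := ⟨by norm_num⟩
  ⟨(ev [(0, 10), (0, 9), (0, 8), (0, 7), (0, 6), (0, 5), (0, 4), (0, 3), (0, 2), (0, 1)] (by decide +kernel)),
    (ev [(1, 4), (1, 5), (1, 9), (1, 3), (2, 8), (2, 10), (2, 7), (2, 6)] (by decide +kernel)),
    orderOf_eq_prime (by decide +kernel) (by decide +kernel), by decide +kernel⟩

theorem alt12_35 : ∃ a c b : alternatingGroup (Fin 12), orderOf a = 5 ∧ orderOf c = 7 ∧ b * a * b⁻¹ = a ^ 2 ∧
    b * c * b⁻¹ = c ^ 3 ∧ a * c * a⁻¹ = c ^ 1 := by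
  have : Fact (Nat.Prime 5) := ⟨by norm_num⟩
  have : Fact (Nat.Prime 7) := ⟨by norm_num⟩
  refine ⟨(ev [(7, 11), (7, 10), (7, 9), (7, 8)] (by decide +kernel)), (ev [(0, 6), (0, 5), (0, 4), (0, 3), (0, 2), (0, 1)] (by decide +kernel)),
    (ev [(1, 5), (1, 4), (1, 6), (1, 2), (1, 3), (8, 10), (8, 11), (8, 9)] (by decide +kernel)), orderOf_eq_prime ?_ ?_, orderOf_eq_prime ?_ ?_, ?_, ?_, ?_⟩
  all_goals decide +kernel

/-- a packed map -/
def pk (v : ℕ) (i : ℕ) : ℕ := (v >>> (3 * i)) % 8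

/-- a group of order `32` -/
def l32 : List ℕ := [16434824, 11789960, 10441368, 14054040, 14570689, 9925825, 12304593, 15917265, 10442250,
  14054922, 16433690, 11788826, 12305475, 15918147, 14569555, 9924691, 4988844, 343980, 2722748, 6335420, 6852069,
  2207205, 858613, 4471285, 2723630, 6336302, 4987710, 342846, 859495, 4472167, 6850935, 2206071]

/-- a generator -/
def g8a : alternatingGroup (Fin 8) := ev [(0, 3), (0, 2), (0, 1), (4, 6)] (by decide +kernel)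

/-- a generator -/
def g8b : alternatingGroup (Fin 8) := ev [(4, 7), (4, 6), (4, 5), (0, 2)] (by decide +kernel)

/-- a generator -/
def g8c : alternatingGroup (Fin 8) := ev [(0, 5), (0, 1), (0, 4), (2, 7), (2, 3), (2, 6)] (by decide +kernel)

theorem l32_gen : ([g8a, g8b, g8c, g8a⁻¹, g8b⁻¹, g8c⁻¹].all fun x =>
    l32.any fun v => (List.finRange 8).all fun i => (x.1 i : ℕ) == pk v i) = true := by decide +kernel

theorem l32_mul : (l32.all fun u => l32.all fun v => l32.any fun w => (List.finRange 8).all fun i =>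
    pk u (pk v i) == pk w i) = true := by decide +kernel

theorem l32_pow : ∀ v ∈ l32, ∀ i : Fin 8, pk v (pk v (pk v (pk v i))) = i := by decide +kernel

theorem isPGroup_g8 : IsPGroup 2 (closure ({g8a, g8b, g8c} : Set (alternatingGroup (Fin 8)))) := by
  have key : ∀ x y : alternatingGroup (Fin 8), x ∈ [g8a, g8b, g8c, g8a⁻¹, g8b⁻¹, g8c⁻¹] →
      (∃ v ∈ l32, ∀ i : Fin 8, (y.1 i : ℕ) = pk v i) → ∃ v ∈ l32, ∀ i : Fin 8, ((x * y).1 i : ℕ) = pk v i := by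
    rintro x y hx ⟨v, hv, e⟩
    have h1 := l32_gen
    have h2 := l32_mul
    simp only [List.any_eq_true, List.all_eq_true, List.mem_finRange, beq_iff_eq, forall_const] at h1 h2
    obtain ⟨u, hu, e'⟩ := h1 x hx
    obtain ⟨w, hw, e''⟩ := h2 u hu v hv
    exact ⟨w, hw, fun i => by rw [← e'', ← e, ← e']; rfl⟩
  have h1 : ∀ g ∈ closure ({g8a, g8b, g8c} : Set _), ∃ v ∈ l32, ∀ i : Fin 8, (g.1 i : ℕ) = pk v i := by
    intro g hg
    refine closure_induction_left (p := fun g _ => ∃ v ∈ l32, ∀ i : Fin 8, (g.1 i : ℕ) = pk v i)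
      ⟨16434824, by decide +kernel, by decide +kernel⟩ ?_ ?_ hg
    · rintro x hx y - h
      exact key x y (by rcases hx with rfl | rfl | rfl <;> simp) h
    · rintro x hx y - h
      exact key x⁻¹ y (by rcases hx with rfl | rfl | rfl <;> simp) h
  refine fun g => ⟨2, ?_⟩
  obtain ⟨v, hv, e⟩ := h1 g g.2
  ext i
  change ((g.1.1 ^ 4) i : ℕ) = i
  simp only [pow_succ, pow_zero, one_mul, Perm.mul_apply, e, l32_pow v hv]

theorem g8_sq : (g8a ^ 2) ^ 2 = 1 ∧ (g8b ^ 2) ^ 2 = 1 ∧ (g8c ^ 2) ^ 2 = 1 ∧ (g8a ^ 2 * g8b ^ 2) ^ 2 = 1 ∧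
    [1, g8a ^ 2, g8b ^ 2, g8c ^ 2, g8a ^ 2 * g8b ^ 2].Nodup := by decide +kernel

theorem alt8_two : ∃ (E : Subgroup (alternatingGroup (Fin 8))) (s : Finset (alternatingGroup (Fin 8))),
    IsPGroup 2 E ∧ (∀ y ∈ s, y ^ 2 = 1 ∧ y ∈ closure {y | ∃ e ∈ E, y = e ^ 2}) ∧ s.card = 5 := by
  have h2 : ∀ x ∈ ({g8a, g8b, g8c} : Set _),
      x ^ 2 ∈ closure {y | ∃ e ∈ closure ({g8a, g8b, g8c} : Set _), y = e ^ 2} :=
    fun x hx => subset_closure ⟨x, subset_closure hx, rfl⟩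
  obtain ⟨k1, k2, k3, k4, k5⟩ := g8_sq
  refine ⟨_, ⟨_, Multiset.coe_nodup.2 k5⟩, isPGroup_g8, fun y hy => ?_, rfl⟩
  simp only [Finset.mem_mk, Multiset.mem_coe, List.mem_cons, List.not_mem_nil, or_false] at hy
  rcases hy with rfl | rfl | rfl | rfl | rfl
  exacts [⟨one_pow _, one_mem _⟩, ⟨k1, h2 _ (by simp)⟩, ⟨k2, h2 _ (by simp)⟩,
    ⟨k3, h2 _ (by simp)⟩, ⟨k4, mul_mem (h2 _ (by simp)) (h2 _ (by simp))⟩]

end CfsgLib.AltSec
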