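import Mathlib
import Cfsg.Agent.Lib.AltSec.Toral2
import Cfsg.Agent.Lib.AltSec.Perms
import Cfsg.Agent.Lib.Twist.F4
import Cfsg.Agent.Lib.Chev.CertG2
import Cfsg.Agent.Lib.LieModel.TwMap

/-!
Alternating sections of the groups of type `G₂`, `³D₄` and `²F₄`.
-/

set_option autoImplicit false

namespace CfsgLib.AltSec

open Subgroup CfsgLib.RGD CfsgLib.Twist CfsgLib.Weyl CfsgLib.Chev CfsgLib.Stein Cfsg.Lie

section General

variable {ι κ B : Type} [Fintype κ] [DecidableEq κ] {Φ : RootSys ι κ}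
  {F : Type*} [Field F] {G : Type*} [Group G] {S : StSys Φ F G}
  {T : Tw S B} {M : Subgroup G} (hM : IsTw T M) [Finite ι] [Finite G]
include hM

theorem not_sec_of_pow {Y : Type*} [Group Y] [Finite Y] {l k m : ℕ} [Fact l.Prime]
    (hl : ¬ l ∣ (S.H ⊓ M).relIndex M) (hY : ∃ a b : Y, orderOf a = l ∧ b * a * b⁻¹ = a ^ k)
    (hW : ∀ w ∈ T.W1, w ^ m = 1) (hk : ¬ k ^ m ≡ 1 [MOD l]) : ¬ Sec Y M := fun h => by
  obtain ⟨a, b, ha, hb⟩ := hY
  obtain ⟨w, hw, e⟩ := exists_W hM hl h (isPGroup_zpowers (ha ▸ pow_orderOf_eq_one a)) (mem_normalizer_zpowers hb)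
  exact hk (modEq_of_commute ha hb (e m (hW w hw) a (mem_zpowers a)))

theorem not_sec_seven (hb : ∀ b, Nat.card ↥(S.UU (posJ Φ (T.J b)) ⊓ T.Fix) ≡ 1 [MOD 5]) (hW : Nat.card T.W1 = 12)
    (h6 : ∀ w ∈ T.W1, w ^ 6 = 1) : ¬ Sec (alternatingGroup (Fin 7)) M :=
  have : Fact (Nat.Prime 5) := ⟨by norm_num⟩
  not_sec_of_pow hM (not_dvd_H hM hb (by rw [hW]; decide)) alt7_five h6 (by decide)

theorem not_sec_eight (hb : ∀ b, Nat.card ↥(S.UU (posJ Φ (T.J b)) ⊓ T.Fix) ≡ 1 [MOD 8]) (hW : Nat.card T.W1 = 12)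
    (h6 : ∀ w ∈ T.W1, w ^ 6 = 1) (ψ : ↥(S.H ⊓ M) →* Fˣ × Fˣ) (hψ : Function.Injective ψ) :
    ¬ Sec (alternatingGroup (Fin 8)) M := fun h => by
  obtain ⟨E, s, h1, h2, h3⟩ := alt8_two
  have := card_sq_le hM (not_dvd_N hM (k := 4) hb (by rw [hW]; decide) (by rw [hW]; decide)) (fun w hw k hk => by
    have h4 : (orderOf w).Coprime 3 :=
      Nat.Coprime.coprime_dvd_left (orderOf_dvd_of_pow_eq_one hk) (Nat.Coprime.pow_left k (by decide))
    exact orderOf_dvd_iff_pow_eq_one.1 (h4.dvd_of_dvd_mul_right (orderOf_dvd_of_pow_eq_one (h6 w hw)))) ψ hψ h h1 s h2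
  omega

end General

theorem pow_six {G : Type*} [Group G] {x y w : G} (hx : x * x = 1) (hy : y * y = 1) (h : (x * y) ^ 6 = 1)
    (hw : w ∈ closure ({x, y} : Set G)) : w ^ 6 = 1 := by
  rcases dihedral_cases hx hy hw with e | ⟨k, rfl⟩
  · rw [show 6 = 2 * 3 from rfl, pow_mul, e, one_pow]
  · change ((x * y) ^ k) ^ 6 = 1
    rw [← zpow_natCast, ← zpow_mul, mul_comm, zpow_mul, zpow_natCast, h, one_zpow]

theorem exists_field (F : Type*) [Field F] [Fintype F] (p : ℕ) [Fact p.Prime] [CharP F p] (n : ℕ) [NeZero n] :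
    ∃ (K : Type) (_ : Field K) (_ : Fintype K) (_ : F →+* K), Fintype.card K = Fintype.card F ^ n :=
  ⟨FiniteField.Extension F p n, inferInstance, Fintype.ofFinite _, algebraMap _ _, by
    rw [Fintype.card_eq_nat_card, FiniteField.natCard_extension, Nat.card_eq_fintype_card]⟩

theorem glMap_injective {n F K : Type*} [Fintype n] [DecidableEq n] [Field F] [Field K] (f : F →+* K) :
    Function.Injective (Matrix.GeneralLinearGroup.map (n := n) f) := fun _ _ e =>
  Units.ext (Matrix.map_injective f.injective (congrArg Units.val e))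

section Chev

variable {D : ChevalleyDatum} [Good D] (h : RtOK D)

omit [Good D] in
theorem card_W {ds : List ℕ} (hc : HasChain D ds) : Nat.card (rootSys h).W = ds.prod := by
  obtain ⟨T, hT, e⟩ := hc.poincare_rootSys h (1 : ℕ)
  have : ((rootSys h).W : Set (Equiv.Perm (Fin D.nroots))) = T := Set.ext fun w => (hT w).symm
  rw [← SetLike.coe_sort_coe, this, Finset.coe_sort_coe, Nat.card_eq_finsetCard]
  simpa using e

/-- passing to a field with `q ≡ 1` modulo `m` -/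
theorem chev_ext {F : Type*} [Field F] [Fintype F] (p : ℕ) [Fact p.Prime] [CharP F p] {m : ℕ} (h0 : 0 < m)
    (hm : p.Coprime m) {Y : Type*} [Group Y] (hY : Sec Y (D.group F)) :
    ∃ (K : Type) (_ : Field K) (_ : Fintype K), Nat.card K ≡ 1 [MOD m] ∧ Sec Y (stSys h K).grp := by
  have : NeZero m.totient := ⟨(Nat.totient_pos.2 h0).ne'⟩
  obtain ⟨K, _, _, f, e⟩ := exists_field F p m.totient
  obtain ⟨n, -, hn⟩ := FiniteField.card F p
  refine ⟨K, inferInstance, inferInstance, ?_, ?_⟩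
  · rw [Nat.card_eq_fintype_card, e, hn]
    exact Nat.ModEq.pow_totient (hm.pow_left n)
  · rw [stSys_grp]
    exact hY.mono_right (groupMap D f) fun a b e => Subtype.ext (glMap_injective f (congrArg Subtype.val e))

end Chev

theorem pow_six_G2 : ∀ w ∈ (rootSys rtOKG2).W, w ^ 6 = 1 := fun w hw => by
  have h : ∀ i, (rootSys rtOKG2).s i * (rootSys rtOKG2).s i = 1 := fun i => by
    ext1 r; exact (rootSys rtOKG2).refl_refl i r
  refine pow_six (h (0 : Fin 2)) (h (1 : Fin 2)) (by ext1 r; revert r; decide +kernel) ?_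
  convert hw using 1
  unfold RootSys.W
  congr 1
  ext x
  exact ⟨by rintro (rfl | rfl) <;> exact ⟨_, rfl⟩, by
    rintro ⟨i, rfl⟩
    have : ∀ i : Fin 2, i = 0 ∨ i = 1 := by decide
    rcases this i with rfl | rfl <;> simp⟩

theorem bound_G2 {F : Type*} [Field F] [Fintype F] (p : ℕ) [hp : Fact p.Prime] [CharP F p] {r : ℕ}
    (h : Sec (alternatingGroup (Fin r)) (chevG2.group F)) : r ≤ 6 + (if p = 5 then 1 else 0) := by
  have hW : ∀ (K : Type) [Field K], Nat.card (twId (stSys rtOKG2 K)).W1 = 12 := fun K _ => by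
    rw [twId_W1, card_W _ hasChainG2]; rfl
  have h6 : ∀ (K : Type) [Field K], ∀ w ∈ (twId (stSys rtOKG2 K)).W1, w ^ 6 = 1 := fun K _ => by
    rw [twId_W1]; exact pow_six_G2
  by_contra hr
  split_ifs at hr with h5
  · obtain ⟨K, _, _, h1, h2⟩ := chev_ext rtOKG2 p (m := 8) (by decide) (by rw [h5]; decide) (h.alt_le (r := 8) (by omega))
    have hS := sharp_stSys rtOKG2 K
    obtain ⟨χ, hχ, -⟩ := exists_chiHom hS
    refine not_sec_eight (isTw_id hS) (fun b => (twId_card hS b).symm ▸ h1) (hW K) (h6 K)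
      (((Pi.evalMonoidHom _ (0 : Fin 2)).prod (Pi.evalMonoidHom _ (1 : Fin 2))).comp (χ.comp (inclusion inf_le_left)))
      (fun a b e => inclusion_injective inf_le_left (hχ (funext fun (i : Fin 2) => ?_))) h2
    fin_cases i
    exacts [congrArg Prod.fst e, congrArg Prod.snd e]
  · obtain ⟨K, _, _, h1, h2⟩ := chev_ext rtOKG2 p (m := 5) (by decide)
      ((Nat.coprime_primes hp.out (by norm_num)).2 h5) (h.alt_le (r := 7) (by omega))
    have hS := sharp_stSys rtOKG2 K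
    exact not_sec_seven (isTw_id hS) (fun b => (twId_card hS b).symm ▸ h1) (hW K) (h6 K) h2

theorem card_W_D4 : Nat.card symD4.W1 = 12 := by
  have : Fintype symD4.W1 := Fintype.ofFinite _
  have := poincareD4 (fun _ => (1 : ℕ)) 1 rfl (by simp)
  simpa using this

theorem pow_six_D4 : ∀ w ∈ symD4.W1, w ^ 6 = 1 := fun w hw => by
  have h : orderOf (symD4.sw 0 * symD4.sw 1) = 6 := orderOf_of_ordChk (swD4 0) (swD4 1) (by decide +kernel)
  refine pow_six (symD4.sw_mul_self 0) (symD4.sw_mul_self 1) (h ▸ pow_orderOf_eq_one _) ?_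
  rwa [show ({symD4.sw 0, symD4.sw 1} : Set _) = Set.range symD4.sw by
    ext; simp [Fin.exists_fin_two, eq_comm], ← symD4.W1_eq_closure]

theorem sec_D4_ext {K L : Type*} [Field K] [Fintype K] [Field L] (f : K →+* L) {q : ℕ} (hK : Fintype.card K = q ^ 3)
    {Y : Type*} [Group Y] (h : Sec Y (twistedD4 K q)) : Sec Y (twistedD4 L (q ^ 4)) := by
  have h3 : ∀ t : K, t ^ q ^ 3 = t := fun t => by rw [← hK, FiniteField.pow_card]
  have h4 : ∀ t : K, t ^ q ^ 4 = t ^ q := fun t => by rw [pow_succ, pow_mul, h3]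
  have : twistedD4 K q ≤ (twistedD4 L (q ^ 4)).comap (Matrix.GeneralLinearGroup.map f) := by
    refine (closure_le _).2 ?_
    rintro g ⟨w, hw, h1⟩
    refine subset_closure ⟨w.map fun p => (p.1, f p.2), ?_, by rw [glMap_val, h1, LieModel.wordMat_map]⟩
    rcases hw with ⟨t, ht, r, hr, rfl⟩ | ⟨t, r, hr, rfl⟩
    · exact Or.inl ⟨f t, by rw [← map_pow, h4, ht], r, hr, rfl⟩
    · refine Or.inr ⟨f t, r, hr, ?_⟩
      rw [← map_pow, ← map_pow, sq (q ^ 4), pow_mul, h4, h4, ← pow_mul, ← sq]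
      rfl
  exact h.mono_right (((Matrix.GeneralLinearGroup.map f).comp (twistedD4 K q).subtype).codRestrict _
    fun g => this g.2) fun a b e => Subtype.ext (glMap_injective f (congrArg Subtype.val e))

theorem bound_D4 {K : Type*} [Field K] [Fintype K] (p a : ℕ) [hp : Fact p.Prime] [CharP K p]
    (ha : 1 ≤ a) (hK : Fintype.card K = (p ^ a) ^ 3) {r : ℕ}
    (h : Sec (alternatingGroup (Fin r)) (twistedD4 K (p ^ a))) : r ≤ 6 + (if p = 5 then 1 else 0) := by
  obtain ⟨L, _, _, f, e⟩ := exists_field K p 4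
  have hL : Fintype.card L = ((p ^ a) ^ 4) ^ 3 := by rw [e, hK, ← pow_mul, ← pow_mul (p ^ a), mul_comm 3]
  obtain ⟨φ, hφ⟩ := exists_frob ((hp.out.isPrimePow.pow (by omega : a ≠ 0)).pow (by decide : 4 ≠ 0)) hL
  have hM := isTwD4 hφ (frob3 hφ hL)
  have h1 := sec_D4_ext f hK h
  have hb : ∀ m : ℕ, m.totient = 4 → p.Coprime m → ∀ b, Nat.card ↥((stSys rtOKD4 L).UU (posJ (rootSys rtOKD4)
      ((twD4 φ).J b)) ⊓ (twD4 φ).Fix) ≡ 1 [MOD m] := fun m hm hc b => by
    have := (Nat.ModEq.pow_totient (hc.pow_left a)).pow (wtD4 b)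
    rw [hm, one_pow] at this
    exact (cardJD4 hφ hL b).symm ▸ this
  by_contra hr
  split_ifs at hr with h5
  · obtain ⟨χ, hχ, h2⟩ := exists_chiHom hM.sharp
    refine not_sec_eight hM (hb 8 (by decide) (by rw [h5]; decide)) card_W_D4 pow_six_D4
      (((Pi.evalMonoidHom _ (ndD4 0)).prod (Pi.evalMonoidHom _ (ndD4 1))).comp (χ.comp (inclusion inf_le_left)))
      ((injective_iff_map_eq_one _).2 fun x e => inclusion_injective inf_le_left (hχ (a₁ := ⟨x, x.2.1⟩) (a₂ := 1) ?_))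
      (h1.alt_le (by omega))
    have k := (twD4 φ).fixChar_of_fix hM.sharp (hM.le_fix x.2.2) (h2 ⟨x, x.2.1⟩)
    have k0 : χ ⟨x, x.2.1⟩ (ndD4 0) = 1 := congrArg Prod.fst e
    have k2 : χ ⟨x, x.2.1⟩ (ndD4 2) = 1 := Units.ext (by
      have := k (ndD4 0); rwa [k0, Units.val_one, map_one, show (twD4 φ).π (ndD4 0) = ndD4 2 from piD4.1] at this)
    have k3 : χ ⟨x, x.2.1⟩ (ndD4 3) = 1 := Units.ext (by
      have := k (ndD4 2); rwa [k2, Units.val_one, map_one, show (twD4 φ).π (ndD4 2) = ndD4 3 from piD4.2.2.1] at this)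
    rw [map_one]
    exact funext (forall_ndD4.2 ⟨k0, congrArg Prod.snd e, k2, k3⟩)
  · exact not_sec_seven hM (hb 5 (by decide) ((Nat.coprime_primes hp.out (by norm_num)).2 h5)) card_W_D4 pow_six_D4
      (h1.alt_le (by omega))

theorem zmod7 : ((2 : ℕ) : ZMod 7) ^ 3 = 1 ∧
    ∀ x : ZMod 7, x ^ 12 * (x - 1) * (x ^ 3 + 1) * (x ^ 4 - 1) * (x ^ 6 + 1) = 0 → x ^ 3 = 1 → x = 1 := by decide

theorem bound_twF4 {K : Type*} [Field K] [Fintype K] {m : ℕ} (hK : Fintype.card K = 2 ^ (2 * m + 1)) {r : ℕ}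
    (h : Sec (alternatingGroup (Fin r)) (twistedF4 K (2 ^ m))) : r ≤ 6 := by
  obtain ⟨_, θ, he, hθ⟩ := exists_theta hK
  have : Fact (Nat.Prime 7) := ⟨by norm_num⟩
  by_contra hr
  have h7 := h.alt_le (r := 7) (by omega)
  have hq : Fintype.card K ≡ 1 [MOD 7] := by
    obtain ⟨a, b, ha, -⟩ := alt7_seven
    have h1 := (ha ▸ orderOf_dvd_natCard a).trans h7.card_dvd
    rw [cardF4 he hθ, ← ZMod.natCast_eq_zero_iff] at h1
    have h0 : 1 ≤ Fintype.card K := Fintype.card_pos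
    rw [← ZMod.natCast_eq_natCast_iff]
    push_cast [Nat.cast_sub h0, Nat.cast_sub (Nat.one_le_pow 4 _ h0)] at h1 ⊢
    have h2 : (Fintype.card K : ZMod 7) ^ 3 = 1 := by
      rw [hK, Nat.cast_pow, ← pow_mul, mul_comm, pow_mul, zmod7.1, one_pow]
    exact zmod7.2 _ h1 h2
  have hW : Nat.card symF4.W1 = 16 := dihF4.elim fun e => by rw [Nat.card_congr e.toEquiv, DihedralGroup.nat_card]
  refine not_sec_of_pow (isTwF4 he hθ) (m := 16) (not_dvd_H (isTwF4 he hθ) (fun b => ?_) ?_) alt7_seven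
    (fun w hw => ?_) (by decide) h7
  · exact (cardJF4 hθ b).symm ▸ (by simpa using hq.pow (wtF4 b))
  · change ¬ 7 ∣ Nat.card symF4.W1
    rw [hW]; decide
  · exact hW ▸ congrArg Subtype.val (pow_card_eq_one' (x := (⟨w, hw⟩ : symF4.W1)))

end CfsgLib.AltSec
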